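/-
The rank eight sublattice on the base octad, and its quadratic space modulo two.
-/
import Cfsg.Agent.Lib.Spor.LeechCentral
import Cfsg.Agent.Lib.Spor.GolayOctadFix
import Cfsg.Prelude.Def_Classical

set_option autoImplicit false
set_option maxRecDepth 100000

namespace Cfsg.Agent.Spor.Co1Invol

open Cfsg Cfsg.Agent.Spor
open scoped Pointwise

local notation "Zv" => GolayPt → ℤ

/-- coordinates of the quadratic space -/
abbrev Ix : Type := Fin 4 ⊕ Fin 4

/-- the quadratic space -/
abbrev V8 : Type := Ix → ZMod 2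

/-- the base octad -/
abbrev oct : Finset GolayPt := ofMask 5279

/-- position of a point inside the octad, or 8 -/
def posO (p : GolayPt) : ℕ := [0, 1, 2, 3, 4, 8, 8, 5, 8, 8, 6, 8, 7].getD (idx p) 8

/-- a vector supported in the octad -/
def vecO (l : List ℤ) : Zv := fun p => l.getD (posO p) 0

/-- the sublattice supported in the octad -/
def L8 : AddSubgroup Zv where
  carrier := {x | x ∈ leechLattice ∧ ∀ p, p ∉ oct → x p = 0}
  zero_mem' := ⟨zero_mem _, fun _ _ => rfl⟩
  add_mem' := fun ha hb => ⟨add_mem ha.1 hb.1, fun p hp => by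
    rw [Pi.add_apply, ha.2 p hp, hb.2 p hp, add_zero]⟩
  neg_mem' := fun ha => ⟨neg_mem ha.1, fun p hp => by rw [Pi.neg_apply, ha.2 p hp, neg_zero]⟩

theorem mem_L8 {x : Zv} : x ∈ L8 ↔ x ∈ leechLattice ∧ ∀ p, p ∉ oct → x p = 0 := Iff.rfl

/-- difference vectors -/
def dif (p : GolayPt) : Zv := Pi.single p 4 - Pi.single (pt 0) 4

/-- the generators -/
def gens8 : List Zv :=
  ([0, 1, 2, 3, 4, 7, 10, 12].map fun i => dif (pt i)) ++ [Pi.single (pt 0) 8, vecO (List.replicate 8 2)]

/-- membership check -/
def l8Check (y : Zv) : Bool := leechCheck y && decide (∀ p, p ∉ oct → y p = 0)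

theorem l8Check_mem {y : Zv} (h : l8Check y = true) : y ∈ L8 := by
  simp only [l8Check, Bool.and_eq_true, decide_eq_true_eq] at h
  exact ⟨leechCheck_mem h.1, h.2⟩

theorem gens8_ok : ∀ g ∈ gens8, l8Check g = true := by decide +kernel

theorem words_in_oct : ∀ m ∈ codeMasks, m &&& 5279 = m → m = 0 ∨ m = 5279 := by decide +kernel

theorem oct_word {w : GolayPt → ZMod 2} (hw : w ∈ golayCode) (h : ∀ p, p ∉ oct → w p = 0) :
    ∀ p ∈ oct, w p = w (pt 0) := by
  have hsub : wmask w &&& 5279 = wmask w := by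
    have hs : support₂ w ∩ oct = support₂ w := Finset.inter_eq_left.2 fun p hp => by
      by_contra hp'
      exact mem_support₂.1 hp (h p hp')
    have e := mask_inter (support₂ w) oct
    rw [hs, mask_ofMask (by norm_num)] at e
    exact e.symm
  have hw' : w = ofMaskW (wmask w) :=
    support₂_injective (by rw [support₂_ofMaskW, wmask, ofMask_mask])
  intro p hp
  rw [hw']
  rw [mem_ofMask] at hp
  rcases words_in_oct _ (mem_code.1 hw) hsub with e | e <;> rw [e]
  · simp [ofMaskW]
  · have h0 : Nat.testBit 5279 (idx (pt 0)) = true := by decide +kernel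
    simp [ofMaskW, hp, h0]

theorem L8_eq : L8 = AddSubgroup.closure {g | g ∈ gens8} := by
  refine le_antisymm (fun x hx => ?_) ((AddSubgroup.closure_le _).2 fun g hg => l8Check_mem (gens8_ok g hg))
  set M := AddSubgroup.closure {g : Zv | g ∈ gens8} with hM
  have hu : vecO (List.replicate 8 2) ∈ M := AddSubgroup.subset_closure (by simp [gens8])
  have main : ∀ y ∈ L8, (∀ p, y p % 4 = 0) → y ∈ M := by
    intro y hy h4
    obtain ⟨m, h2, h8, -⟩ := mem_leech.1 hy.1
    have hnone : y none = 0 := hy.2 none (by decide +kernel)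
    have hm : m % 2 = 0 := by have := h2 none; rw [hnone] at this; omega
    choose c hc using fun p => Int.dvd_of_emod_eq_zero (h4 p)
    have hsum : (∑ p, c p) % 2 = 0 := by
      have e : ∑ p, y p = 4 * ∑ p, c p := by
        rw [Finset.mul_sum]; exact Finset.sum_congr rfl fun p _ => hc p
      rw [e] at h8; omega
    have hdec : y = ∑ p, c p • dif p + ((∑ p, c p) / 2) • (Pi.single (pt 0) 8 : Zv) := by
      funext k
      simp only [Pi.add_apply, Finset.sum_apply, Pi.smul_apply, dif, Pi.sub_apply, smul_eq_mul, mul_sub,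
        Finset.sum_sub_distrib, Pi.single_apply, mul_ite, mul_zero, Finset.sum_ite_eq, Finset.mem_univ, if_true]
      by_cases hk : k = pt 0
      · subst hk
        simp only [if_true, ← Finset.sum_mul]
        rw [hc]; omega
      · simp only [if_neg hk, Finset.sum_const_zero]
        rw [hc]; ring
    rw [hdec]
    refine add_mem (sum_mem fun p _ => ?_) (zsmul_mem (AddSubgroup.subset_closure (by simp [gens8])) _)
    by_cases hp : p ∈ oct
    · refine zsmul_mem (AddSubgroup.subset_closure ?_) _
      have key : ∀ q : GolayPt, q ∈ oct → q ∈ [0, 1, 2, 3, 4, 7, 10, 12].map pt := by decide +kernel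
      obtain ⟨i, hi, e⟩ := List.mem_map.1 (key p hp)
      refine List.mem_append_left _ (List.mem_map.2 ⟨i, hi, ?_⟩)
      rw [e]
    · have : c p = 0 := by have := hc p; rw [hy.2 p hp] at this; omega
      rw [this, zero_smul]; exact zero_mem _
  obtain ⟨m, h2, -, hd⟩ := mem_leech.1 hx.1
  have hm : m % 2 = 0 := by
    have := h2 none; rw [hx.2 none (by decide +kernel)] at this; omega
  have hev : ∀ p, x p % 2 = 0 := fun p => by rw [h2 p]; exact hm
  have hconst := oct_word hd fun p hp => by simp [digit, hx.2 p hp]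
  have hu8 : vecO (List.replicate 8 2) ∈ L8 := l8Check_mem (gens8_ok _ (by simp [gens8]))
  have huval : ∀ p, vecO (List.replicate 8 2) p = if p ∈ oct then 2 else 0 := by decide +kernel
  rcases word_eq_one_or_zero (digit x (pt 0)) with h0 | h0
  · refine main x hx fun p => ?_
    by_cases hp : p ∈ oct
    · have := hconst p hp
      rw [h0, digit, ZMod.intCast_zmod_eq_zero_iff_dvd] at this
      push_cast at this
      have := hev p
      omega
    · rw [hx.2 p hp]; rfl
  · have := main (x - vecO (List.replicate 8 2)) (sub_mem hx hu8) fun p => by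
      rw [Pi.sub_apply, huval]
      by_cases hp : p ∈ oct
      · rw [if_pos hp]
        have h1 := hconst p hp
        rw [h0, digit, ← Int.cast_one, ZMod.intCast_eq_intCast_iff'] at h1
        push_cast at h1
        have := hev p
        omega
      · rw [if_neg hp, hx.2 p hp]; rfl
    have h := add_mem this hu
    rwa [sub_add_cancel] at h

/-- induction on the sublattice -/
theorem L8_induction {P : Zv → Prop} (hg : ∀ g ∈ gens8, P g) (h0 : P 0)
    (hadd : ∀ a ∈ L8, ∀ b ∈ L8, P a → P b → P (a + b)) (hneg : ∀ a ∈ L8, P a → P (-a))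
    {x : Zv} (hx : x ∈ L8) : P x := by
  have hx' : x ∈ AddSubgroup.closure {g | g ∈ gens8} := L8_eq ▸ hx
  induction hx' using AddSubgroup.closure_induction with
  | mem g h => exact hg g h
  | zero => exact h0
  | add a b ha hb iha ihb =>
    exact hadd a (by rw [L8_eq]; exact ha) b (by rw [L8_eq]; exact hb)
      (iha (by rw [L8_eq]; exact ha)) (ihb (by rw [L8_eq]; exact hb))
  | neg a ha iha => exact hneg a (by rw [L8_eq]; exact ha) (iha (by rw [L8_eq]; exact ha))

/-! ### the form -/

/-- half inner products modulo two -/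
def dB (x y : Zv) : ZMod 2 := ((dotInt x y / 16 : ℤ) : ZMod 2)

/-- norms modulo two -/
def qL (x : Zv) : ZMod 2 := ((sqNorm x / 32 : ℤ) : ZMod 2)

theorem dot_add_left (a b y : Zv) : dotInt (a + b) y = dotInt a y + dotInt b y := by
  simp [dotInt, add_mul, Finset.sum_add_distrib]

theorem dot_neg_left (a y : Zv) : dotInt (-a) y = -dotInt a y := by
  simp [dotInt, Finset.sum_neg_distrib]

theorem dot_symm (a y : Zv) : dotInt a y = dotInt y a := by
  simp [dotInt, mul_comm]

theorem gens8_dot : ∀ g ∈ gens8, ∀ h ∈ gens8, dotInt g h % 16 = 0 ∧ sqNorm g % 32 = 0 := by decide +kernel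

theorem L8_dot {x y : Zv} (hx : x ∈ L8) (hy : y ∈ L8) : dotInt x y % 16 = 0 := by
  revert y
  refine L8_induction (P := fun x => ∀ {y}, y ∈ L8 → dotInt x y % 16 = 0) (fun g hg y hy => ?_)
    (fun {y} _ => by simp [dotInt]) (fun a _ b _ iha ihb y hy => ?_) (fun a _ iha y hy => ?_) hx
  · refine L8_induction (P := fun y => dotInt g y % 16 = 0) (fun h hh => (gens8_dot g hg h hh).1)
      (by simp [dotInt]) (fun a _ b _ iha ihb => ?_) (fun a _ iha => ?_) hy
    · rw [dot_symm, dot_add_left, dot_symm a, dot_symm b]; omega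
    · rw [dot_symm, dot_neg_left, dot_symm a]; omega
  · have := iha hy; have := ihb hy; rw [dot_add_left]; omega
  · have := iha hy; rw [dot_neg_left]; omega

theorem L8_norm {x : Zv} (hx : x ∈ L8) : sqNorm x % 32 = 0 := by
  refine L8_induction (P := fun x => sqNorm x % 32 = 0) (fun g hg => (gens8_dot g hg g hg).2)
    (by simp [sqNorm]) (fun a ha b hb iha ihb => ?_) (fun a _ iha => ?_) hx
  · have := L8_dot ha hb; rw [sqNorm_add]; omega
  · rwa [show sqNorm (-a) = sqNorm a by simp [sqNorm]]

theorem dB_add_left {a b y : Zv} (ha : a ∈ L8) (hb : b ∈ L8) (hy : y ∈ L8) :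
    dB (a + b) y = dB a y + dB b y := by
  have h1 := L8_dot ha hy
  have h2 := L8_dot hb hy
  rw [dB, dB, dB, dot_add_left, ← Int.cast_add]
  congr 1; omega

theorem dB_symm (a y : Zv) : dB a y = dB y a := by rw [dB, dB, dot_symm]

/-- the basis -/
def bB : Ix → Zv
  | .inl i => vecO (([[8, 0, 0, 0, 0, 0, 0, 0], [4, 4, 4, -4, 0, 0, 0, 0], [4, 4, 0, 0, 0, 4, -4, 0],
      [4, 0, 4, 0, 0, 0, 4, 4]] : List (List ℤ)).getD i.1 [])
  | .inr i => vecO (([[6, 2, 2, 2, 2, 2, 2, -2], [4, 4, 4, 0, -4, 0, 0, 0], [4, 4, 0, 0, 0, 4, 0, 4],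
      [4, 0, 0, 4, 4, -4, 0, 0]] : List (List ℤ)).getD i.1 [])

theorem bB_ok : ∀ j, l8Check (bB j) = true := by decide +kernel

theorem bB_mem (j : Ix) : bB j ∈ L8 := l8Check_mem (bB_ok j)

/-- coordinates modulo two -/
def coord (x : Zv) : V8 := fun j => dB x (bB j.swap)

theorem coord_bB : ∀ i j : Ix, coord (bB i) j = if i = j then 1 else 0 := by decide +kernel

theorem coord_zero : coord 0 = 0 := by funext j; simp [coord, dB, dotInt]

theorem coord_add {a b : Zv} (ha : a ∈ L8) (hb : b ∈ L8) : coord (a + b) = coord a + coord b :=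
  funext fun j => dB_add_left ha hb (bB_mem _)

theorem coord_neg {a : Zv} (ha : a ∈ L8) : coord (-a) = coord a := by
  have h := coord_add ha (neg_mem ha)
  rw [add_neg_cancel, coord_zero] at h
  funext j
  have := congrFun h j
  simp only [Pi.zero_apply, Pi.add_apply] at this
  revert this
  generalize coord a j = u
  generalize coord (-a) j = v
  revert u v; decide

/-- the polar form -/
def polV (v w : V8) : ZMod 2 := ∑ i : Fin 4, (v (.inl i) * w (.inr i) + v (.inr i) * w (.inl i))

theorem polV_add_left (a b w : V8) : polV (a + b) w = polV a w + polV b w := by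
  rw [polV, polV, polV, ← Finset.sum_add_distrib]
  exact Finset.sum_congr rfl fun i _ => by simp only [Pi.add_apply]; ring

theorem polV_symm (a w : V8) : polV a w = polV w a :=
  Finset.sum_congr rfl fun i _ => by ring

theorem quad_add (a b : V8) : quadFormPlus 4 (ZMod 2) (a + b) =
    quadFormPlus 4 (ZMod 2) a + quadFormPlus 4 (ZMod 2) b + polV a b := by
  rw [quadFormPlus, quadFormPlus, quadFormPlus, polV, ← Finset.sum_add_distrib, ← Finset.sum_add_distrib]
  exact Finset.sum_congr rfl fun i _ => by simp only [Pi.add_apply]; ring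

theorem dB_gens : ∀ g ∈ gens8, ∀ h ∈ gens8, dB g h = polV (coord g) (coord h) := by decide +kernel

theorem dB_coord {x y : Zv} (hx : x ∈ L8) (hy : y ∈ L8) : dB x y = polV (coord x) (coord y) := by
  have z0 : ∀ y : Zv, dB 0 y = polV (coord 0) (coord y) := fun y => by
    rw [coord_zero]; simp [dB, dotInt, polV]
  have hn : ∀ a ∈ L8, ∀ y ∈ L8, dB (-a) y = dB a y := fun a ha y hy => by
    have h := dB_add_left ha (neg_mem ha) hy
    rw [add_neg_cancel] at h
    have : dB 0 y = 0 := by simp [dB, dotInt]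
    rw [this] at h
    revert h
    generalize dB a y = u
    generalize dB (-a) y = v
    revert u v; decide
  revert y
  refine L8_induction (P := fun x => ∀ {y}, y ∈ L8 → dB x y = polV (coord x) (coord y)) (fun g hg y hy => ?_)
    (fun {y} _ => z0 y) (fun a ha b hb iha ihb y hy => ?_) (fun a ha iha y hy => ?_) hx
  · have hgm := l8Check_mem (gens8_ok g hg)
    refine L8_induction (P := fun y => dB g y = polV (coord g) (coord y)) (fun h hh => dB_gens g hg h hh)
      (by rw [dB_symm, z0, polV_symm]) (fun a ha b hb iha ihb => ?_) (fun a ha iha => ?_) hy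
    · rw [dB_symm, dB_add_left ha hb hgm, dB_symm a, dB_symm b, iha, ihb, coord_add ha hb, polV_symm _ (_ + _),
        polV_add_left, polV_symm (coord a), polV_symm (coord b)]
    · rw [dB_symm, hn a ha g hgm, coord_neg ha, dB_symm, iha]
  · rw [dB_add_left ha hb hy, iha hy, ihb hy, coord_add ha hb, polV_add_left]
  · rw [hn a ha y hy, iha hy, coord_neg ha]

theorem qL_gens : ∀ g ∈ gens8, qL g = quadFormPlus 4 (ZMod 2) (coord g) := by
  intro g hg
  have : ∀ g ∈ gens8, qL g = ∑ i : Fin 4, coord g (.inl i) * coord g (.inr i) := by decide +kernel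
  exact this g hg

theorem quad_coord {x : Zv} (hx : x ∈ L8) : quadFormPlus 4 (ZMod 2) (coord x) = qL x := by
  refine L8_induction (P := fun x => quadFormPlus 4 (ZMod 2) (coord x) = qL x) (fun g hg => (qL_gens g hg).symm)
    (by rw [coord_zero]; simp [qL, sqNorm, quadFormPlus]) (fun a ha b hb iha ihb => ?_) (fun a ha iha => ?_) hx
  · rw [coord_add ha hb, quad_add, iha, ihb, ← dB_coord ha hb, qL, qL, qL, dB, sqNorm_add, ← Int.cast_add,
      ← Int.cast_add]
    congr 1
    have := L8_norm ha; have := L8_norm hb; have := L8_dot ha hb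
    omega
  · rw [coord_neg ha, iha, qL, qL, show sqNorm (-a) = sqNorm a by simp [sqNorm]]

/-! ### lifting -/

/-- a lift of a vector -/
def lift (v : V8) : Zv := ∑ j, ((v j).val : ℤ) • bB j

theorem lift_mem (v : V8) : lift v ∈ L8 := sum_mem fun j _ => zsmul_mem (bB_mem j) _

/-- coordinates as a homomorphism -/
def coordHom : ↥L8 →+ V8 := AddMonoidHom.mk' (fun x => coord (x : Zv)) fun a b => coord_add a.2 b.2

theorem coord_lift (v : V8) : coord (lift v) = v := by
  have e : (lift v : Zv) = ((∑ j, ((v j).val : ℤ) • (⟨bB j, bB_mem j⟩ : ↥L8) : ↥L8) : Zv) := by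
    rw [AddSubgroup.val_finsetSum]; rfl
  rw [e]
  show coordHom (∑ j, ((v j).val : ℤ) • (⟨bB j, bB_mem j⟩ : ↥L8)) = v
  rw [map_sum]
  funext k
  simp only [map_zsmul, Finset.sum_apply, Pi.smul_apply]
  rw [Finset.sum_eq_single k]
  · rw [show coordHom ⟨bB k, bB_mem k⟩ k = coord (bB k) k from rfl, coord_bB, if_pos rfl, zsmul_one]
    simp
  · intro j _ hj
    rw [show coordHom ⟨bB j, bB_mem j⟩ k = coord (bB j) k from rfl, coord_bB, if_neg hj, smul_zero]
  · exact fun h => absurd (Finset.mem_univ k) h

/-- the check that a generator is congruent to the lift of its coordinates -/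
def halfCheck (g : Zv) : Bool :=
  decide (∀ p, (g p - lift (coord g) p) % 2 = 0) && l8Check (fun p => (g p - lift (coord g) p) / 2)

theorem gens8_half : ∀ g ∈ gens8, halfCheck g = true := by decide +kernel

/-- twice the sublattice -/
def twoL8 : AddSubgroup Zv where
  carrier := {x | ∃ w ∈ L8, x = w + w}
  zero_mem' := ⟨0, zero_mem _, (add_zero _).symm⟩
  add_mem' := by rintro _ _ ⟨u, hu, rfl⟩ ⟨w, hw, rfl⟩; exact ⟨u + w, add_mem hu hw, by abel⟩
  neg_mem' := by rintro _ ⟨u, hu, rfl⟩; exact ⟨-u, neg_mem hu, by abel⟩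

theorem lift_add (u v : V8) : lift (u + v) - (lift u + lift v) ∈ twoL8 := by
  rw [lift, lift, lift, ← Finset.sum_add_distrib, ← Finset.sum_sub_distrib]
  refine sum_mem fun j _ => ?_
  rw [← add_smul, ← sub_smul, Pi.add_apply]
  have : ∀ a b : ZMod 2, ((a + b).val : ℤ) - ((a.val : ℤ) + b.val) = 0 ∨
      ((a + b).val : ℤ) - ((a.val : ℤ) + b.val) = -2 := by decide
  rcases this (u j) (v j) with e | e <;> rw [e]
  · rw [zero_smul]; exact zero_mem _
  · exact ⟨-bB j, neg_mem (bB_mem j), by rw [neg_smul, two_smul]; abel⟩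

theorem sub_lift_mem {x : Zv} (hx : x ∈ L8) : x - lift (coord x) ∈ twoL8 := by
  refine L8_induction (P := fun x => x - lift (coord x) ∈ twoL8) (fun g hg => ?_)
    (by rw [coord_zero]; simp [lift]) (fun a ha b hb iha ihb => ?_) (fun a ha iha => ?_) hx
  · have h := gens8_half g hg
    simp only [halfCheck, Bool.and_eq_true, decide_eq_true_eq] at h
    exact ⟨_, l8Check_mem h.2, funext fun p => by have := h.1 p; simp only [Pi.sub_apply, Pi.add_apply]; omega⟩
  · rw [coord_add ha hb]
    have h := sub_mem (add_mem iha ihb) (lift_add (coord a) (coord b))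
    convert h using 1
    abel
  · rw [coord_neg ha]
    have h : -(a - lift (coord a)) - (lift (coord a) + lift (coord a)) ∈ twoL8 :=
      sub_mem (neg_mem iha) ⟨_, lift_mem _, rfl⟩
    convert h using 1
    abel

theorem coord_eq_zero_iff {x : Zv} (hx : x ∈ L8) : coord x = 0 ↔ x ∈ twoL8 := by
  constructor
  · intro h
    have := sub_lift_mem hx
    rw [h] at this
    simpa [lift] using this
  · rintro ⟨w, hw, rfl⟩
    rw [coord_add hw hw]
    exact funext fun j => CharTwo.add_self_eq_zero _

end Cfsg.Agent.Spor.Co1Invol
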