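/-
The centraliser of the octad sign change in Co0 and its action on the rank eight sublattice modulo two.
-/
import Cfsg.Agent.Lib.Spor.Co1Invol.Basic

set_option autoImplicit false
set_option maxRecDepth 100000

namespace Cfsg.Agent.Spor.Co1Invol

open Cfsg Cfsg.Agent.Spor
open scoped Pointwise

local notation "Zv" => GolayPt → ℤ
set_option quotPrecheck false in
local notation "Lv" => ↥leechLattice

/-! ### automorphisms as maps of vectors -/

open Classical in
/-- an automorphism as a map of vectors -/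
noncomputable def act (g : ↥Co0) (x : Zv) : Zv :=
  if h : x ∈ leechLattice then ((g • (⟨x, h⟩ : Lv) : Lv) : Zv) else 0

theorem act_coe (g : ↥Co0) (v : Lv) : act g (v : Zv) = ((g • v : Lv) : Zv) := dif_pos v.2

theorem act_mem (g : ↥Co0) {x : Zv} (hx : x ∈ leechLattice) : act g x ∈ leechLattice := by
  rw [show x = ((⟨x, hx⟩ : Lv) : Zv) from rfl, act_coe]; exact (g • (⟨x, hx⟩ : Lv)).2

theorem act_one {x : Zv} (hx : x ∈ leechLattice) : act 1 x = x := by
  rw [show x = ((⟨x, hx⟩ : Lv) : Zv) from rfl, act_coe, one_smul]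

theorem act_mul (g h : ↥Co0) {x : Zv} (hx : x ∈ leechLattice) : act (g * h) x = act g (act h x) := by
  rw [show x = ((⟨x, hx⟩ : Lv) : Zv) from rfl, act_coe, act_coe, act_coe, mul_smul]

theorem act_add (g : ↥Co0) {x y : Zv} (hx : x ∈ leechLattice) (hy : y ∈ leechLattice) :
    act g (x + y) = act g x + act g y := by
  rw [show x + y = ((⟨x, hx⟩ + ⟨y, hy⟩ : Lv) : Zv) from rfl, act_coe, co0_add, AddSubgroup.coe_add,
    ← act_coe, ← act_coe]

theorem act_zero (g : ↥Co0) : act g 0 = 0 := by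
  have h := act_add g (zero_mem leechLattice) (zero_mem leechLattice)
  rw [add_zero] at h
  exact left_eq_add.1 h

theorem act_neg (g : ↥Co0) {x : Zv} (hx : x ∈ leechLattice) : act g (-x) = -act g x := by
  have h := act_add g hx (neg_mem hx)
  rw [add_neg_cancel, act_zero] at h
  exact eq_neg_of_add_eq_zero_right h.symm

theorem act_norm (g : ↥Co0) {x : Zv} (hx : x ∈ leechLattice) : sqNorm (act g x) = sqNorm x := by
  rw [show x = ((⟨x, hx⟩ : Lv) : Zv) from rfl, act_coe]; exact g.2.2 _

theorem act_inj (g : ↥Co0) {x y : Zv} (hx : x ∈ leechLattice) (hy : y ∈ leechLattice)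
    (h : act g x = act g y) : x = y := by
  have := congrArg (act g⁻¹) h
  rwa [← act_mul _ _ hx, ← act_mul _ _ hy, inv_mul_cancel, act_one hx, act_one hy] at this

theorem act_ext {g h : ↥Co0} (e : ∀ x ∈ leechLattice, act g x = act h x) : g = h :=
  co0_ext fun v => by rw [← act_coe, ← act_coe]; exact e _ v.2

/-! ### negation and the sign change -/

/-- negation -/
noncomputable def nEl : ↥Co0 := Classical.choose negation_exists

theorem nEl_act {x : Zv} (hx : x ∈ leechLattice) : act nEl x = -x := by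
  rw [show x = ((⟨x, hx⟩ : Lv) : Zv) from rfl, act_coe]
  exact Classical.choose_spec negation_exists _

theorem nEl_center : nEl ∈ Subgroup.center ↥Co0 := negation_mem_center (Classical.choose_spec negation_exists)

theorem center_two {c : ↥Co0} (hc : c ∈ Subgroup.center ↥Co0) : c = 1 ∨ c = nEl :=
  center_cases (Classical.choose_spec negation_exists) hc

/-- the word of the octad -/
abbrev octW : GolayPt → ZMod 2 := ofMaskW 5279

theorem octW_mem : octW ∈ golayCode := dec_code (by decide +kernel) (by norm_num)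

theorem octW_val : ∀ p, octW p = if p ∈ oct then 1 else 0 := by decide +kernel

/-- the sign change on the octad -/
noncomputable def eps : ↥Co0 := Classical.choose (exists_sgn octW_mem)

theorem eps_spec (v : Lv) : ((eps • v : Lv) : Zv) = sgn octW v := Classical.choose_spec (exists_sgn octW_mem) v

theorem eps_act {x : Zv} (hx : x ∈ leechLattice) : act eps x = sgn octW x := by
  rw [show x = ((⟨x, hx⟩ : Lv) : Zv) from rfl, act_coe]; exact eps_spec _

theorem sgn_oct_fix {x : Zv} : sgn octW x = x ↔ ∀ p ∈ oct, x p = 0 := by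
  constructor
  · intro h p hp
    have := congrFun h p
    simp only [sgn, octW_val, if_pos hp, one_ne_zero, if_false] at this
    omega
  · intro h
    funext p
    by_cases hp : p ∈ oct
    · simp [sgn, octW_val, hp, h p hp]
    · simp [sgn, octW_val, hp]

theorem sgn_oct_neg {x : Zv} : sgn octW x = -x ↔ ∀ p, p ∉ oct → x p = 0 := by
  constructor
  · intro h p hp
    have := congrFun h p
    simp only [sgn, octW_val, if_neg hp, if_true, Pi.neg_apply] at this
    omega
  · intro h
    funext p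
    by_cases hp : p ∈ oct
    · simp [sgn, octW_val, hp]
    · simp [sgn, octW_val, hp, h p hp]

theorem eps_sq : eps * eps = 1 := act_ext fun x hx => by
  rw [act_mul _ _ hx, eps_act (act_mem _ hx), eps_act hx, sgn_sgn, act_one hx]

/-- its centraliser -/
noncomputable def C0 : Subgroup ↥Co0 := Subgroup.centralizer ({eps} : Set ↥Co0)

theorem mem_C0 {g : ↥Co0} : g ∈ C0 ↔ eps * g = g * eps := by
  rw [C0, Subgroup.mem_centralizer_singleton_iff]; exact eq_comm

theorem C0_comm (g : ↥C0) {x : Zv} (hx : x ∈ leechLattice) :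
    act g (sgn octW x) = sgn octW (act g x) := by
  have h := congrArg (fun k => act k x) (mem_C0.1 g.2)
  simp only [act_mul _ _ hx, eps_act (act_mem _ hx), eps_act hx] at h
  exact h.symm

theorem act_L8 (g : ↥C0) {x : Zv} (hx : x ∈ L8) : act g x ∈ L8 := by
  refine mem_L8.2 ⟨act_mem _ hx.1, sgn_oct_neg.1 ?_⟩
  rw [← C0_comm g hx.1, sgn_oct_neg.2 hx.2, act_neg _ hx.1]

theorem act_off (g : ↥C0) {x : Zv} (hx : x ∈ leechLattice) (h : ∀ p ∈ oct, x p = 0) :
    ∀ p ∈ oct, act g x p = 0 := by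
  refine sgn_oct_fix.1 ?_
  rw [← C0_comm g hx, sgn_oct_fix.2 h]

/-! ### the action modulo two -/

/-- the matrix -/
noncomputable def mat (g : ↥C0) : Matrix Ix Ix (ZMod 2) := Matrix.of fun i j => coord (act g (bB j)) i

theorem mat_spec (g : ↥C0) {x : Zv} (hx : x ∈ L8) : Matrix.mulVec (mat g) (coord x) = coord (act g x) := by
  refine L8_induction (P := fun x => Matrix.mulVec (mat g) (coord x) = coord (act g x)) (fun a ha => ?_)
    (by rw [coord_zero, act_zero, coord_zero, Matrix.mulVec_zero]) (fun a ha b hb iha ihb => ?_)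
    (fun a ha iha => ?_) hx
  · have ham := l8Check_mem (gens8_ok a ha)
    have h1 := sub_lift_mem ham
    obtain ⟨w, hw, e⟩ := h1
    have hl := lift_mem (coord a)
    have ea : a = lift (coord a) + (w + w) := by rw [← e]; abel
    have key : coord (act g a) = coord (act g (lift (coord a))) := by
      conv_lhs => rw [ea]
      rw [act_add _ hl.1 (add_mem hw hw).1, coord_add (act_L8 g hl) (act_L8 g (add_mem hw hw)),
        act_add _ hw.1 hw.1, coord_add (act_L8 g hw) (act_L8 g hw)]
      funext k; simp [CharTwo.add_self_eq_zero]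
    rw [key]
    let A : ↥L8 →+ V8 := AddMonoidHom.mk' (fun y => coord (act g (y : Zv))) fun u v => by
      show coord (act g ((u : Zv) + (v : Zv))) = _
      rw [act_add _ u.2.1 v.2.1, coord_add (act_L8 g u.2) (act_L8 g v.2)]
    have el : lift (coord a) = ((∑ j, ((coord a j).val : ℤ) • (⟨bB j, bB_mem j⟩ : ↥L8) : ↥L8) : Zv) := by
      rw [AddSubgroup.val_finsetSum]; rfl
    rw [el]
    show _ = A (∑ j, ((coord a j).val : ℤ) • (⟨bB j, bB_mem j⟩ : ↥L8))
    rw [map_sum]
    funext i
    simp only [Finset.sum_apply, map_zsmul, Pi.smul_apply, Matrix.mulVec, dotProduct, zsmul_eq_mul]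
    refine Finset.sum_congr rfl fun j _ => ?_
    rw [mul_comm]
    congr 1
    simp
  · rw [coord_add ha hb, Matrix.mulVec_add, iha, ihb, act_add _ ha.1 hb.1,
      coord_add (act_L8 g ha) (act_L8 g hb)]
  · rw [coord_neg ha, iha, act_neg _ ha.1, coord_neg (act_L8 g ha)]

theorem mat_lift (g : ↥C0) (v : V8) : Matrix.mulVec (mat g) v = coord (act g (lift v)) := by
  rw [← mat_spec g (lift_mem v), coord_lift]

theorem mat_one : mat 1 = 1 := by
  ext i j
  show coord (act ((1 : ↥C0) : ↥Co0) (bB j)) i = _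
  rw [OneMemClass.coe_one, act_one (bB_mem j).1, coord_bB, Matrix.one_apply]
  by_cases h : i = j
  · simp [h]
  · simp [h, Ne.symm h]

theorem mat_mul (g h : ↥C0) : mat (g * h) = mat g * mat h := by
  refine Matrix.toLin'.injective (LinearMap.ext fun v => ?_)
  simp only [Matrix.toLin'_apply, ← Matrix.mulVec_mulVec]
  rw [mat_lift, mat_lift h, mat_spec g (act_L8 h (lift_mem v)), Subgroup.coe_mul, act_mul _ _ (lift_mem v).1]

/-- the invertible matrix -/
noncomputable def unitMat (g : ↥C0) : Matrix.GeneralLinearGroup Ix (ZMod 2) :=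
  ⟨mat g, mat g⁻¹, by rw [← mat_mul, mul_inv_cancel, mat_one], by rw [← mat_mul, inv_mul_cancel, mat_one]⟩

theorem mat_quad (g : ↥C0) (v : V8) :
    quadFormPlus 4 (ZMod 2) (Matrix.mulVec (mat g) v) = quadFormPlus 4 (ZMod 2) v := by
  rw [mat_lift, quad_coord (act_L8 g (lift_mem v)), qL, act_norm _ (lift_mem v).1]
  conv_rhs => rw [← coord_lift v, quad_coord (lift_mem v), qL]

/-- the homomorphism to the orthogonal group -/
noncomputable def phi : ↥C0 →* ↥(isometryGroup (ZMod 2) (quadFormPlus 4 (ZMod 2))) :=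
  MonoidHom.mk' (fun g => ⟨unitMat g, fun u _ => mat_quad g u⟩)
    fun g h => Subtype.ext (Units.ext (mat_mul g h))

theorem phi_val (g : ↥C0) : ((phi g).1 : Matrix Ix Ix (ZMod 2)) = mat g := rfl

theorem mem_ker_phi {g : ↥C0} : g ∈ phi.ker ↔ ∀ x ∈ L8, act g x - x ∈ twoL8 := by
  rw [MonoidHom.mem_ker]
  constructor
  · intro h x hx
    have hm : mat g = 1 := by rw [← phi_val, h]; rfl
    refine (coord_eq_zero_iff (sub_mem (act_L8 g hx) hx)).1 ?_
    rw [sub_eq_add_neg, coord_add (act_L8 g hx) (neg_mem hx), coord_neg hx, ← mat_spec g hx, hm,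
      Matrix.one_mulVec]
    funext k; simp [CharTwo.add_self_eq_zero]
  · intro h
    refine Subtype.ext (Units.ext ?_)
    show mat g = 1
    refine Matrix.toLin'.injective (LinearMap.ext fun v => ?_)
    simp only [Matrix.toLin'_apply, Matrix.one_mulVec]
    have hd := h _ (lift_mem v)
    have hx := lift_mem v
    have e : coord (act g (lift v)) = coord (lift v) := by
      have h2 := (coord_eq_zero_iff (sub_mem (act_L8 g hx) hx)).2 hd
      rw [sub_eq_add_neg, coord_add (act_L8 g hx) (neg_mem hx), coord_neg hx] at h2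
      exact CharTwo.add_eq_zero.1 (a := _) (b := _) (funext fun k => congrFun h2 k) |> fun e => e
    rw [mat_lift, e, coord_lift]

/-! ### monomial elements -/

/-- a monomial element -/
def IsMono (g : ↥Co0) (σ : Equiv.Perm GolayPt) (w : GolayPt → ZMod 2) : Prop :=
  ∀ v : Lv, ((g • v : Lv) : Zv) = sgn w (prm σ (v : Zv))

theorem IsMono.act {g : ↥Co0} {σ : Equiv.Perm GolayPt} {w : GolayPt → ZMod 2} (h : IsMono g σ w) {x : Zv}
    (hx : x ∈ leechLattice) : Co1Invol.act g x = sgn w (prm σ x) := by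
  rw [show x = ((⟨x, hx⟩ : Lv) : Zv) from rfl, act_coe]; exact h _

theorem eps_mono : IsMono eps 1 octW := fun v => by rw [eps_spec]; rfl

theorem mono_C0 {g : ↥Co0} {σ : Equiv.Perm GolayPt} {w : GolayPt → ZMod 2} (h : IsMono g σ w) :
    g ∈ C0 ↔ σ • oct = oct := by
  have h1 : ∀ v : Lv, (((eps * g) • v : Lv) : Zv) = sgn (octW + w) (prm σ (v : Zv)) := fun v => by
    rw [mono_mul eps_mono h]; rfl
  have h2 : ∀ v : Lv, (((g * eps) • v : Lv) : Zv) = sgn (w + actW σ octW) (prm σ (v : Zv)) := fun v => by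
    rw [mono_mul h eps_mono, mul_one]
  rw [mem_C0]
  constructor
  · intro e
    have e2 := (mono_unique fun v => (h1 v).symm.trans (e ▸ h2 v)).2
    rw [add_comm] at e2
    have e3 := congrArg support₂ (add_left_cancel e2)
    rw [support₂_actW, support₂_ofMaskW] at e3
    exact e3.symm
  · intro e
    refine co0_ext fun v => ?_
    rw [h1, h2, add_comm]
    congr 2
    refine support₂_injective ?_
    rw [support₂_actW, support₂_ofMaskW]
    exact e.symm

/-- congruence of a frame vector -/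
theorem mono_of_fix {g : ↥C0} {p : GolayPt} (h : act g (e8 p : Zv) - (e8 p : Zv) ∈ twoL8) :
    ∃ σ ∈ stabM oct, ∃ w ∈ golayCode, IsMono (g : ↥Co0) σ w := by
  obtain ⟨u, hu, e⟩ := h
  rw [act_coe] at e
  have hc : cross (((g : ↥Co0) • e8 p : Lv) : Zv) = cross (e8 none : Zv) := by
    rw [← cross_e8 p]
    refine (cross_eq_iff (e8 p).2).2 ⟨((g : ↥Co0).2.2 (e8 p)).symm, u, hu.1, ?_⟩
    rw [e, two_nsmul]
  have himg : imgCross (g : ↥Co0) = cross (e8 none : Zv) :=
    (cross_act (g : ↥Co0) (cross_e8 p)).symm.trans hc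
  obtain ⟨σ, hσ, w, hw, hm⟩ := std_form (stdStab_iff.2 himg)
  exact ⟨σ, mem_stabM.2 ⟨hσ, (mono_C0 hm).1 g.2⟩, w, hw, hm⟩

theorem L8_parity {x : Zv} (hx : x ∈ L8) {p q : GolayPt} (hp : p ∈ oct) (hq : q ∈ oct) :
    (x p - x q) % 4 = 0 := by
  obtain ⟨m, h2, -, hd⟩ := mem_leech.1 hx.1
  have hm : m % 2 = 0 := by
    have := h2 none; rw [hx.2 none (by decide +kernel)] at this; omega
  have hc := oct_word hd fun r hr => by simp [digit, hx.2 r hr]
  have e : digit x p = digit x q := (hc p hp).trans (hc q hq).symm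
  rw [digit, digit, ZMod.intCast_eq_intCast_iff'] at e
  push_cast at e
  have := h2 p; have := h2 q
  omega

theorem pairL8 {i j : GolayPt} (hi : i ∈ oct) (hj : j ∈ oct) : (Pi.single i 4 - Pi.single j 4 : Zv) ∈ L8 := by
  have h : ∀ p ∈ oct, l8Check (dif p) = true := by decide +kernel
  have := sub_mem (l8Check_mem (h i hi)) (l8Check_mem (h j hj))
  convert this using 1
  simp [dif]

theorem ker_mono {g : ↥C0} (hg : g ∈ phi.ker) : ∃ σ ∈ fixM oct, ∃ w ∈ golayCode,
    IsMono (g : ↥Co0) σ w ∧ ∀ p ∈ oct, w p = w (pt 0) := by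
  rw [mem_ker_phi] at hg
  have hp0 : pt 0 ∈ oct := by decide +kernel
  obtain ⟨σ, hσ, w, hw, hm⟩ := mono_of_fix (p := pt 0) (hg _ (mem_L8.2 ⟨(e8 (pt 0)).2, fun q hq => by
    have : q ≠ pt 0 := fun e => hq (e ▸ hp0)
    simp [e8, Pi.single_eq_of_ne this]⟩))
  obtain ⟨hM, hst⟩ := mem_stabM.1 hσ
  have hmem : ∀ {p}, σ p ∈ oct ↔ p ∈ oct := fun {p} =>
    ⟨fun h => by rw [← hst] at h; exact (Finset.smul_mem_smul_finset_iff σ).1 h,
      fun h => hst ▸ Finset.smul_mem_smul_finset h⟩
  have hfix : ∀ i ∈ oct, σ i = i := by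
    intro i hi
    by_contra hne
    have hi' : σ.symm i ∈ oct := hmem.1 (by rwa [Equiv.apply_symm_apply])
    obtain ⟨j, hj, hj1, hj2⟩ : ∃ j ∈ oct, j ≠ i ∧ j ≠ σ.symm i := by
      have : ∀ a b : GolayPt, ∃ j ∈ oct, j ≠ a ∧ j ≠ b := by decide +kernel
      exact this _ _
    obtain ⟨k, hk, hk1, hk2, hk3, hk4⟩ : ∃ k ∈ oct, k ≠ i ∧ k ≠ j ∧ k ≠ σ i ∧ k ≠ σ j := by
      have h4 : ({i, j, σ i, σ j} : Finset GolayPt).card ≤ 4 := Finset.card_le_four
      have h8 : oct.card = 8 := by decide +kernel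
      obtain ⟨k, hk, hk'⟩ := Finset.exists_mem_notMem_of_card_lt_card
        (s := ({i, j, σ i, σ j} : Finset GolayPt)) (t := oct) (by omega)
      simp only [Finset.mem_insert, Finset.mem_singleton, not_or] at hk'
      exact ⟨k, hk, hk'.1, hk'.2.1, hk'.2.2.1, hk'.2.2.2⟩
    obtain ⟨u, hu, e⟩ := hg _ (pairL8 hi hj)
    rw [hm.act (pairL8 hi hj).1] at e
    have ei := congrFun e i
    have ek := congrFun e k
    have hk5 : σ.symm k ≠ i := fun e => hk3 (by rw [← e, Equiv.apply_symm_apply])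
    have hk6 : σ.symm k ≠ j := fun e => hk4 (by rw [← e, Equiv.apply_symm_apply])
    have hi5 : σ.symm i ≠ i := fun e => hne (by rw [Equiv.symm_apply_eq] at e; exact e.symm)
    have hp := L8_parity hu hi hk
    simp [sgn, prm, Pi.single_apply, hi5, Ne.symm hj2, Ne.symm hj1, hk1, hk2, hk5, hk6] at ei ek
    omega
  refine ⟨σ, mem_fixM.2 ⟨hM, hfix⟩, w, hw, hm, fun p hp => ?_⟩
  have hu8 : vecO (List.replicate 8 2) ∈ L8 := l8Check_mem (gens8_ok _ (by simp [gens8]))
  have huval : ∀ p, vecO (List.replicate 8 2) p = if p ∈ oct then 2 else 0 := by decide +kernel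
  obtain ⟨u, hu, e⟩ := hg _ hu8
  rw [hm.act hu8.1] at e
  have hs : ∀ q ∈ oct, σ.symm q = q := fun q hq => by rw [Equiv.symm_apply_eq, hfix q hq]
  have e1 := congrFun e p
  have e2 := congrFun e (pt 0)
  have hpar := L8_parity hu hp hp0
  rcases word_eq_one_or_zero (w p) with a | a <;> rcases word_eq_one_or_zero (w (pt 0)) with b | b <;>
    simp only [Pi.sub_apply, Pi.add_apply, sgn, prm, hs p hp, hs _ hp0, huval, if_pos hp, if_pos hp0] at e1 e2 <;> simp [a, b] at e1 e2 ⊢ <;> exfalso <;> omega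

end Cfsg.Agent.Spor.Co1Invol
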