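/-
The order of the centraliser of the octad sign change and its image in the orthogonal group.
-/
import Cfsg.Agent.Lib.Spor.Co1Invol.Cent
import Cfsg.Agent.Lib.Classical.OrthPOmega

set_option autoImplicit false
set_option maxRecDepth 100000

namespace Cfsg.Agent.Spor.Co1Invol

open Cfsg Cfsg.Agent.Spor
open scoped Pointwise

local notation "Zv" => GolayPt → ℤ
set_option quotPrecheck false in
local notation "Lv" => ↥leechLattice

/-- orbit of the base point -/
def orbCodes : List ℕ := [1, 2, 3, 110, 104, 236, 111, 105, 237, 22, 73, 231, 195, 16, 40, 12, 148, 65, 37, 20, 72, 230, 194, 18, 41, 13, 150, 64, 36, 240, 93, 245, 85, 74, 234, 9, 10, 159, 225, 161, 192, 45, 205, 133, 246, 60, 30, 80, 4, 15, 32, 115, 55, 215, 66, 7, 134, 243, 51, 157, 185, 235, 8, 11, 224, 75, 160, 44, 204, 132, 82, 118, 120, 5, 193, 33, 112, 59, 95, 14, 6, 135, 189, 190, 186, 217, 179, 146, 96, 206, 128, 88, 153, 164, 175, 102, 131, 220, 52, 63, 219, 249, 183, 24, 180, 125, 208, 48, 210,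 213, 144, 123, 155, 87, 255, 207, 129, 97, 165, 174, 103, 130, 67, 126, 90, 117, 252, 56, 222, 176, 170, 28, 26, 171, 250]

/-- parents in the orbit -/
def orbPar : List (ℕ × ℕ) := [(0, 0), (0, 0), (1, 1), (1, 2), (1, 3), (1, 4), (2, 2), (2, 3), (2, 4), (3, 0), (3, 2), (3, 3), (3, 4), (4, 0), (4, 2), (4, 3), (5, 0), (5, 2), (5, 3), (6, 0), (6, 2), (6, 3), (6, 4), (7, 0), (7, 2), (7, 3), (8, 0), (8, 2), (8, 3), (9, 1), (9, 2), (9, 3), (9, 4), (10, 0), (10, 2), (10, 3), (10, 4), (11, 0), (11, 2), (11, 4), (12, 0), (12, 2), (12, 3), (12, 4), (13, 1), (13, 2), (13, 3), (14, 0), (14, 4), (15, 0), (15, 4), (16, 1), (16, 3), (16, 4), (17, 0), (17, 4), (18, 3), (19, 1), (19, 2), (19, 3), (19, 4), (20, 2), (20, 3), (20, 4), (21, 2), (21, 3), (21, 4), (22, 2), (22, 3), (22, 4), (23, 2), (23, 3), (23, 4), (24, 4), (25, 2), (25, 4), (26, 1), (26, 2), (26, 3), (27, 3), (27, 4), (28, 3), (29, 2), (29, 3), (30, 1), (30, 2), (30, 4), (32, 3), (33, 3), (34, 3), (34, 4), (37, 3),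 (38, 0), (39, 2), (39, 3), (39, 4), (42, 2), (44, 2), (44, 4), (45, 0), (45, 1), (46, 1), (47, 1), (47, 2), (51, 2), (51, 3), (52, 1), (53, 1), (57, 2), (58, 1), (58, 2), (59, 1), (59, 2), (60, 2), (60, 4), (61, 3), (61, 4), (64, 4), (66, 2), (66, 3), (66, 4), (68, 2), (69, 4), (70, 4), (71, 4), (77, 3), (78, 3), (84, 2), (84, 3), (85, 2), (90, 3), (100, 4), (105, 2), (106, 0), (110, 4)]

/-- the vector of a code -/
def vecAt (c : ℕ) : V8 :=
  fun j => if Nat.testBit c (Sum.elim (fun i : Fin 4 => i.1) (fun i : Fin 4 => 4 + i.1) j) then 1 else 0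

/-- permutations of the generators -/
def permGen (k : ℕ) : List ℕ := octStabGens.getD k []

/-- image lists inverted -/
def invList (l : List ℕ) : List ℕ := (List.range 24).map fun i => l.idxOf i

/-- a permutation on vectors, computable -/
def prmL (l : List ℕ) (x : Zv) : Zv := fun p => x (pt ((invList l).getD (idx p) 0))

/-- the maps of the generators -/
def genMap : ℕ → Zv → Zv
  | 0 => xi
  | 1 => sgn (ofMaskW 10558)
  | k + 2 => prmL (permGen k)

theorem orbit_step : ∀ i : Fin 134, (orbPar.getD (i.1 + 1) (0, 0)).1 < i.1 + 1 ∧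
    (orbPar.getD (i.1 + 1) (0, 0)).2 < 5 ∧
    coord (genMap (orbPar.getD (i.1 + 1) (0, 0)).2 (lift (vecAt (orbCodes.getD (orbPar.getD (i.1 + 1) (0, 0)).1 0)))) =
      vecAt (orbCodes.getD (i.1 + 1) 0) := by decide +kernel

theorem orbit_facts : orbCodes.length = 135 ∧ orbCodes.Nodup ∧ (∀ c ∈ orbCodes, c < 256) ∧
    coord (Pi.single (pt 0) 8 : Zv) = vecAt (orbCodes.getD 0 0) := by decide +kernel

theorem singular_listed : ∀ v : V8, (∑ i : Fin 4, v (.inl i) * v (.inr i)) = 0 → v ≠ 0 →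
    ∃ c ∈ orbCodes, v = vecAt c := by decide +kernel

theorem vecAt_code : ∀ c, c < 256 →
    (List.range 8).foldr (fun j s => s + if vecAt c (if h : j < 4 then .inl ⟨j, h⟩ else .inr ⟨j % 4, Nat.mod_lt _ (by norm_num)⟩) = 1
      then 2 ^ j else 0) 0 = c := by decide +kernel

theorem vecAt_inj {a b : ℕ} (ha : a < 256) (hb : b < 256) (h : vecAt a = vecAt b) : a = b := by
  rw [← vecAt_code a ha, ← vecAt_code b hb, h]

/-! ### generators -/

theorem xiM_block : ∀ p q : GolayPt, (p ∈ oct ↔ q ∈ oct) ∨ xiM p q = 0 := by decide +kernel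

theorem xi_sgn (x : Zv) (hx : x ∈ leechLattice) : xi (sgn octW x) = sgn octW (xi x) := by
  funext p
  have hev := congrFun (xi_spec hx).2 p
  simp only [Pi.smul_apply, smul_eq_mul] at hev
  have h2 : xi2 (sgn octW x) p = if p ∈ oct then -xi2 x p else xi2 x p := by
    simp only [xi2]
    by_cases hp : p ∈ oct
    · rw [if_pos hp, ← Finset.sum_neg_distrib]
      refine Finset.sum_congr rfl fun q _ => ?_
      rcases xiM_block p q with h | h
      · simp [sgn, octW_val, h.1 hp]
      · simp [h]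
    · rw [if_neg hp]
      refine Finset.sum_congr rfl fun q _ => ?_
      rcases xiM_block p q with h | h
      · have hq : q ∉ oct := fun hq => hp (h.2 hq)
        simp [sgn, octW_val, hq]
      · simp [h]
  by_cases hp : p ∈ oct
  · show xi2 (sgn octW x) p / 2 = sgn octW (xi x) p
    rw [h2, if_pos hp]
    simp [sgn, octW_val, hp]
    omega
  · show xi2 (sgn octW x) p / 2 = sgn octW (xi x) p
    rw [h2, if_neg hp]
    simp [sgn, octW_val, hp, xi]

theorem permGen_ok : ∀ k, k < 3 → m24ok (permGen k) = true ∧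
    (∀ p : GolayPt, pt ((invList (permGen k)).getD (idx p) 0) ∈ oct ↔ p ∈ oct) ∧
    ∀ p : GolayPt, (permGen k).getD (idx (pt ((invList (permGen k)).getD (idx p) 0))) 0 = idx p := by
  decide +kernel

theorem exists_gen : ∀ k, k < 5 → ∃ g : ↥C0, ∀ x ∈ L8, act g x = genMap k x := by
  intro k hk
  match k, hk with
  | 0, _ =>
    obtain ⟨a, ha⟩ := exists_xi
    have hact : ∀ x ∈ leechLattice, act a x = xi x := fun x hx => by
      rw [show x = ((⟨x, hx⟩ : Lv) : Zv) from rfl, act_coe, ha]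
    have hC : a ∈ C0 := mem_C0.2 (act_ext fun x hx => by
      rw [act_mul _ _ hx, act_mul _ _ hx, eps_act (act_mem _ hx), hact x hx, eps_act hx,
        hact _ (sgn_mem octW_mem hx), xi_sgn x hx])
    exact ⟨⟨a, hC⟩, fun x hx => hact x hx.1⟩
  | 1, _ =>
    have hw : ofMaskW 10558 ∈ golayCode := code10558
    obtain ⟨a, ha⟩ := mono_exists (one_mem M24) hw
    exact ⟨⟨a, (mono_C0 (σ := 1) ha).2 (one_smul _ _)⟩, fun x hx => IsMono.act ha hx.1⟩
  | j + 2, hj =>
    obtain ⟨hm, hst, hinv⟩ := permGen_ok j (by omega)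
    have hlok : lok (permGen j) = true := by simp only [m24ok, Bool.and_eq_true] at hm; exact hm.1
    set σ := lperm (permGen j)
    have hσ : ∀ p, σ.symm p = pt ((invList (permGen j)).getD (idx p) 0) := fun p => by
      rw [Equiv.symm_apply_eq]
      refine idx_injective ?_
      rw [← rep_lperm hlok, hinv]
    obtain ⟨a, ha⟩ := mono_exists (lperm_mem hm) (zero_mem golayCode)
    have hstab : σ • oct = oct := by
      ext p
      rw [← Finset.smul_mem_smul_finset_iff σ⁻¹, inv_smul_smul]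
      show σ.symm p ∈ oct ↔ _
      rw [hσ]; exact hst p
    refine ⟨⟨a, (mono_C0 (σ := σ) ha).2 hstab⟩, fun x hx => ?_⟩
    rw [IsMono.act (g := a) (σ := σ) (w := 0) ha hx.1]
    funext p
    simp [sgn, prm, genMap, prmL, hσ]

/-- the image of the base frame -/
noncomputable def orbMap (g : ↥C0) : V8 := Matrix.mulVec (mat g) (vecAt (orbCodes.getD 0 0))

theorem e8_L8 : (e8 (pt 0) : Zv) ∈ L8 := mem_L8.2 ⟨(e8 (pt 0)).2, fun q hq => by
  have : q ≠ pt 0 := fun e => hq (e ▸ (by decide +kernel : pt 0 ∈ oct))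
  simp [e8, Pi.single_eq_of_ne this]⟩

theorem base_coord : coord (e8 (pt 0) : Zv) = vecAt (orbCodes.getD 0 0) := orbit_facts.2.2.2

theorem range_orbMap : Set.range orbMap = (vecAt '' {c | c ∈ orbCodes}) := by
  refine Set.Subset.antisymm ?_ ?_
  · rintro _ ⟨g, rfl⟩
    obtain ⟨c, hc, e⟩ := singular_listed (orbMap g) (by
      show quadFormPlus 4 (ZMod 2) (orbMap g) = 0
      rw [orbMap, mat_quad]
      show ∑ i : Fin 4, _ = _
      decide +kernel) (fun h => by
      have h2 := congrArg (Matrix.mulVec (mat g⁻¹)) h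
      rw [orbMap, Matrix.mulVec_mulVec, ← mat_mul, inv_mul_cancel, mat_one, Matrix.one_mulVec,
        Matrix.mulVec_zero] at h2
      revert h2; decide +kernel)
    exact ⟨c, hc, e.symm⟩
  · rintro _ ⟨c, hc, rfl⟩
    obtain ⟨i, hi, rfl⟩ := List.mem_iff_getElem.1 hc
    rw [orbit_facts.1] at hi
    rw [← List.getD_eq_getElem _ 0]
    induction i using Nat.strong_induction_on with
    | _ i ih =>
      rcases i with - | i
      · exact ⟨1, by rw [orbMap, mat_one, Matrix.one_mulVec]⟩
      · obtain ⟨h1, h2, h3⟩ := orbit_step ⟨i, by omega⟩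
        obtain ⟨g, hg⟩ := exists_gen _ h2
        have hd : (orbPar.getD (i + 1) (0, 0)).1 < orbCodes.length := by
          rw [orbit_facts.1]; simp only at h1; omega
        obtain ⟨h, hh⟩ := ih _ h1 (by first | exact hd | omega | exact List.getElem_mem _)
          (by first | exact hd | omega | exact List.getElem_mem _) (List.getElem_mem _)
        refine ⟨g * h, ?_⟩
        rw [orbMap, mat_mul, ← Matrix.mulVec_mulVec, show Matrix.mulVec (mat h) _ = _ from hh, mat_lift,
          hg _ (lift_mem _), h3]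

/-- monomial elements of the centraliser -/
noncomputable def M0 : Subgroup ↥C0 := monoSub.subgroupOf C0

theorem mem_M0 {g : ↥C0} : g ∈ M0 ↔ StdStab (g : ↥Co0) := Subgroup.mem_subgroupOf.trans mem_monoSub

theorem M0_form {g : ↥C0} (hg : g ∈ M0) : ∃ σ ∈ stabM oct, ∃ w ∈ golayCode, IsMono (g : ↥Co0) σ w := by
  obtain ⟨σ, hσ, w, hw, hm⟩ := std_form (mem_M0.1 hg)
  exact ⟨σ, mem_stabM.2 ⟨hσ, (mono_C0 hm).1 g.2⟩, w, hw, hm⟩

theorem single_coord : ∀ p ∈ oct, coord (Pi.single p 8 : Zv) = vecAt (orbCodes.getD 0 0) := by decide +kernel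

theorem orbMap_eq {g h : ↥C0} : orbMap g = orbMap h ↔ g⁻¹ * h ∈ M0 := by
  have hfix : ∀ k : ↥C0, orbMap k = orbMap 1 ↔ k ∈ M0 := fun k => by
    have hk : orbMap k = coord (act k (e8 (pt 0) : Zv)) := by
      rw [orbMap, ← base_coord, mat_spec k e8_L8]
    rw [hk, orbMap, mat_one, Matrix.one_mulVec, ← base_coord]
    constructor
    · intro e
      have hd : act k (e8 (pt 0) : Zv) - (e8 (pt 0) : Zv) ∈ twoL8 := by
        refine (coord_eq_zero_iff (sub_mem (act_L8 k e8_L8) e8_L8)).1 ?_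
        rw [sub_eq_add_neg, coord_add (act_L8 k e8_L8) (neg_mem e8_L8), coord_neg e8_L8, e]
        funext j; simp [CharTwo.add_self_eq_zero]
      obtain ⟨σ, -, w, -, hm⟩ := mono_of_fix hd
      exact mem_M0.2 (mono_std hm)
    · intro hk0
      obtain ⟨σ, hσ, w, -, hm⟩ := M0_form hk0
      have hin : σ (pt 0) ∈ oct := by
        have h0 : pt 0 ∈ oct := by decide +kernel
        have := Finset.smul_mem_smul_finset (a := σ) h0
        rwa [(mem_stabM.1 hσ).2] at this
      rw [hm.act (e8 (pt 0)).2]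
      have e : sgn w (prm σ (e8 (pt 0) : Zv)) = Pi.single (σ (pt 0)) 8 ∨
          sgn w (prm σ (e8 (pt 0) : Zv)) = -Pi.single (σ (pt 0)) 8 := by
        rcases word_eq_one_or_zero (w (σ (pt 0))) with a | a
        · left; funext p
          by_cases hp : p = σ (pt 0)
          · subst hp; simp [sgn, prm, e8, a]
          · have : σ.symm p ≠ pt 0 := fun e => hp (by rw [← e, Equiv.apply_symm_apply])
            simp [sgn, prm, e8, hp, this]
        · right; funext p
          by_cases hp : p = σ (pt 0)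
          · subst hp; simp [sgn, prm, e8, a]
          · have : σ.symm p ≠ pt 0 := fun e => hp (by rw [← e, Equiv.apply_symm_apply])
            simp [sgn, prm, e8, hp, this]
      have hL : (Pi.single (σ (pt 0)) 8 : Zv) ∈ L8 := mem_L8.2 ⟨(e8 (σ (pt 0))).2, fun q hq => by
        have : q ≠ σ (pt 0) := fun e => hq (e ▸ hin)
        simp [Pi.single_eq_of_ne this]⟩
      rcases e with e | e <;> rw [e]
      · rw [single_coord _ hin, base_coord]
      · rw [coord_neg hL, single_coord _ hin, base_coord]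
  constructor
  · intro e
    rw [← hfix, orbMap, mat_mul, ← Matrix.mulVec_mulVec]
    show Matrix.mulVec (mat g⁻¹) (orbMap h) = _
    rw [← e, orbMap, Matrix.mulVec_mulVec, ← mat_mul, inv_mul_cancel]; rfl
  · intro e
    rw [← hfix] at e
    have := congrArg (Matrix.mulVec (mat g)) e
    rw [orbMap, orbMap, Matrix.mulVec_mulVec, ← mat_mul, mul_inv_cancel_left, mat_one, Matrix.one_mulVec] at this
    exact this.symm

theorem card_range_orb : Nat.card (Set.range orbMap) = 135 := by
  rw [range_orbMap]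
  refine (Nat.card_image_of_injOn (s := {c | c ∈ orbCodes}) (fun a ha b hb e =>
    vecAt_inj (orbit_facts.2.2.1 a ha) (orbit_facts.2.2.1 b hb) e)).trans ?_
  rw [Nat.card_coe_set_eq, show {c | c ∈ orbCodes} = (orbCodes.toFinset : Set ℕ) by ext; simp,
    Set.ncard_coe_finset, List.toFinset_card_of_nodup orbit_facts.2.1, orbit_facts.1]

theorem index_M0 : M0.index = 135 := by
  rw [← card_range_orb, Subgroup.index]
  refine Nat.card_congr (Equiv.ofBijective
    (fun q => ⟨Quotient.liftOn' q orbMap fun a b hab => orbMap_eq.2 (QuotientGroup.leftRel_apply.1 hab), ?_⟩) ⟨?_, ?_⟩)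
  · induction q using Quotient.inductionOn' with
    | h a => exact ⟨a, rfl⟩
  · intro q r e
    induction q using Quotient.inductionOn' with
    | h a =>
      induction r using Quotient.inductionOn' with
      | h b => exact Quotient.sound' (QuotientGroup.leftRel_apply.2 (orbMap_eq.1 (congrArg Subtype.val e)))
  · rintro ⟨_, a, rfl⟩
    exact ⟨Quotient.mk'' a, rfl⟩

theorem card_M0 : Nat.card M0 = 4096 * 322560 := by
  rw [← card_golayCode, ← card_stabM_octad baseOctad_mem, ← Nat.card_prod]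
  symm
  have key : ∀ q : ↥golayCode × ↥(stabM oct), ∃ g : ↥Co0, IsMono g q.2 q.1 := fun q =>
    mono_exists (mem_stabM.1 q.2.2).1 q.1.2
  choose G hG using key
  have hC : ∀ q, G q ∈ C0 := fun q => (mono_C0 (hG q)).2 (mem_stabM.1 q.2.2).2
  refine Nat.card_congr (Equiv.ofBijective (fun q => ⟨⟨G q, hC q⟩, mem_M0.2 (mono_std (hG q))⟩) ⟨?_, ?_⟩)
  · intro q r e
    have e' : G q = G r := congrArg (fun z : ↥M0 => ((z : ↥C0) : ↥Co0)) e
    obtain ⟨h1, h2⟩ := mono_unique fun v => (hG q v).symm.trans (e' ▸ hG r v)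
    exact Prod.ext (Subtype.ext h2) (Subtype.ext h1)
  · rintro ⟨g, hg⟩
    obtain ⟨σ, hσ, w, hw, hm⟩ := M0_form hg
    exact ⟨(⟨w, hw⟩, ⟨σ, hσ⟩), Subtype.ext (Subtype.ext (co0_ext fun v => (hG _ v).trans (hm v).symm))⟩

theorem card_C0 : Nat.card ↥C0 = 135 * (4096 * 322560) := by
  rw [← Subgroup.card_mul_index M0, index_M0, card_M0, mul_comm]

/-- words constant on the octad -/
def constW : Submodule (ZMod 2) (GolayPt → ZMod 2) where
  carrier := {w | w ∈ golayCode ∧ ∀ p ∈ oct, w p = w (pt 0)}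
  zero_mem' := ⟨zero_mem _, fun _ _ => rfl⟩
  add_mem' := fun ha hb => ⟨add_mem ha.1 hb.1, fun p hp => by
    rw [Pi.add_apply, Pi.add_apply, ha.2 p hp, hb.2 p hp]⟩
  smul_mem' := fun c a ha => ⟨Submodule.smul_mem _ c ha.1, fun p hp => by
    rw [Pi.smul_apply, Pi.smul_apply, ha.2 p hp]⟩

/-- masks of the words constant on the octad -/
def constMasks : List ℕ := codeMasks.filter fun m => Nat.land m 5279 == 0 || Nat.land m 5279 == 5279

theorem constMasks_facts : constMasks.length = 64 ∧ constMasks.Nodup ∧ ∀ m ∈ codeMasks,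
    (m ∈ constMasks ↔ ∀ p ∈ oct, Nat.testBit m (idx p) = Nat.testBit m (idx (pt 0))) := by decide +kernel

theorem card_constW : Nat.card ↥constW = 64 := by
  rw [← constMasks_facts.1, ← List.toFinset_card_of_nodup constMasks_facts.2.1, ← Nat.card_eq_finsetCard]
  have hin : ∀ w : ↥constW, wmask (w : GolayPt → ZMod 2) ∈ constMasks.toFinset := fun w => by
    rw [List.mem_toFinset, constMasks_facts.2.2 _ (mem_code.1 w.2.1)]
    intro p hp
    have h := w.2.2 p hp
    rw [show (w : GolayPt → ZMod 2) = ofMaskW (wmask (w : GolayPt → ZMod 2)) from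
      support₂_injective (by rw [support₂_ofMaskW, wmask, ofMask_mask])] at h
    simp only [ofMaskW] at h
    split_ifs at h with h1 h2 h2 <;> simp_all
  refine Nat.card_congr (Equiv.ofBijective (fun w => ⟨_, hin w⟩) ⟨fun a b e => Subtype.ext
    (wmask_injective (congrArg Subtype.val e)), ?_⟩)
  rintro ⟨m, hm⟩
  rw [List.mem_toFinset] at hm
  have hmc : m ∈ codeMasks := (List.mem_filter.1 hm).1
  refine ⟨⟨ofMaskW m, ⟨mem_code_of_support hmc (support₂_ofMaskW m), fun p hp => ?_⟩⟩,
    Subtype.ext (wmask_ofMaskW (codeMasks_lt m hmc))⟩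
  have := (constMasks_facts.2.2 m hmc).1 hm p hp
  simp [ofMaskW, this]

theorem mono_ker {g : ↥C0} {σ : Equiv.Perm GolayPt} {w : GolayPt → ZMod 2} (hσ : σ ∈ fixM oct)
    (hw : ∀ p ∈ oct, w p = w (pt 0)) (hm : IsMono (g : ↥Co0) σ w) : g ∈ phi.ker := by
  rw [mem_ker_phi]
  intro x hx
  have e : act g x = x ∨ act g x = -x := by
    rw [hm.act hx.1]
    have hs : ∀ q ∈ oct, σ.symm q = q := fun q hq => by rw [Equiv.symm_apply_eq, (mem_fixM.1 hσ).2 q hq]
    have hoff : ∀ q, q ∉ oct → x (σ.symm q) = 0 := fun q hq => hx.2 _ fun hin => hq (by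
      have := (mem_fixM.1 hσ).2 _ hin
      rw [Equiv.apply_symm_apply] at this
      rw [this]; exact hin)
    rcases word_eq_one_or_zero (w (pt 0)) with a | a
    · left; funext p
      by_cases hp : p ∈ oct
      · simp [sgn, prm, hw p hp, a, hs p hp]
      · simp [sgn, prm, hoff p hp, hx.2 p hp]
    · right; funext p
      by_cases hp : p ∈ oct
      · simp [sgn, prm, hw p hp, a, hs p hp]
      · simp [sgn, prm, hoff p hp, hx.2 p hp]
  rcases e with e | e <;> rw [e]
  · rw [sub_self]; exact zero_mem _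
  · exact ⟨-x, neg_mem hx, by abel⟩

theorem card_ker : Nat.card phi.ker = 1024 := by
  rw [show 1024 = 64 * 16 from rfl, ← card_constW, ← (card_fixM_octad baseOctad_mem).1, ← Nat.card_prod]
  symm
  have key : ∀ q : ↥constW × ↥(fixM oct), ∃ g : ↥Co0, IsMono g q.2 q.1 := fun q =>
    mono_exists (mem_fixM.1 q.2.2).1 q.1.2.1
  choose G hG using key
  have hC : ∀ q, G q ∈ C0 := fun q => (mono_C0 (hG q)).2 (mem_stabM.1 (fixM_le_stabM oct q.2.2)).2
  refine Nat.card_congr (Equiv.ofBijective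
    (fun q => ⟨⟨G q, hC q⟩, mono_ker q.2.2 q.1.2.2 (hG q)⟩) ⟨?_, ?_⟩)
  · intro q r e
    have e' : G q = G r := congrArg (fun z : ↥phi.ker => ((z : ↥C0) : ↥Co0)) e
    obtain ⟨h1, h2⟩ := mono_unique fun v => (hG q v).symm.trans (e' ▸ hG r v)
    exact Prod.ext (Subtype.ext h2) (Subtype.ext h1)
  · rintro ⟨g, hg⟩
    obtain ⟨σ, hσ, w, hw, hm, hc⟩ := ker_mono hg
    exact ⟨(⟨w, ⟨hw, hc⟩⟩, ⟨σ, hσ⟩), Subtype.ext (Subtype.ext (co0_ext fun v => (hG _ v).trans (hm v).symm))⟩

theorem card_range_phi : Nat.card phi.range = 174182400 := by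
  have h := Subgroup.card_mul_index phi.ker
  rw [Subgroup.index_ker, card_ker, card_C0] at h
  omega

theorem range_phi : phi.range = Omega (ZMod 2) (quadFormPlus 4 (ZMod 2)) := by
  have hc := Cfsg.Agent.Classical.OCount.card_GO_plus (F := ZMod 2) 3
  norm_num [Finset.prod_range_succ, ZMod.card] at hc
  haveI : Finite ↥(isometryGroup (ZMod 2) (quadFormPlus 4 (ZMod 2))) :=
    Nat.finite_of_card_ne_zero (by rw [hc]; norm_num)
  have hidx : phi.range.index = 2 := by
    have h := Subgroup.card_mul_index phi.range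
    rw [card_range_phi, hc] at h
    omega
  have hle : Omega (ZMod 2) (quadFormPlus 4 (ZMod 2)) ≤ phi.range := by
    haveI : phi.range.Normal := Subgroup.normal_of_index_eq_two hidx
    haveI : Fact (Nat.Prime 2) := ⟨Nat.prime_two⟩
    have hq : Nat.card (_ ⧸ phi.range) = 2 := hidx
    haveI : IsCyclic (_ ⧸ phi.range) := isCyclic_of_prime_card hq
    exact Subgroup.Normal.quotient_commutative_iff_commutator_le.1 ⟨⟨fun a b => mul_comm' a b⟩⟩
  refine (Subgroup.eq_of_le_of_card_ge hle ?_).symm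
  haveI : CharP (ZMod 2) 2 := ZMod.charP 2
  have h4 : (Omega (ZMod 2) (quadFormPlus 4 (ZMod 2))).index = 2 := by
    rw [← Cfsg.Agent.Classical.OOmega.coe_plus 4]
    exact Cfsg.Agent.Classical.OOmega.index_omega_two (Cfsg.Agent.Classical.OOmega.formOf_pnd
      Cfsg.Agent.Classical.OOmega.pnd_empty) (by simp) (Or.inr (by simp))
  have h5 := Subgroup.card_mul_index (Omega (ZMod 2) (quadFormPlus 4 (ZMod 2)))
  rw [h4, hc] at h5
  rw [card_range_phi]
  omega

end Cfsg.Agent.Spor.Co1Invol
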