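/-
The elements of the centraliser acting trivially on the sublattice, and their centraliser.
-/
import Cfsg.Agent.Lib.Spor.Co1Invol.Image

set_option autoImplicit false
set_option maxRecDepth 100000

namespace Cfsg.Agent.Spor.Co1Invol

open Cfsg Cfsg.Agent.Spor
open scoped Pointwise

local notation "Zv" => GolayPt → ℤ
set_option quotPrecheck false in
local notation "Lv" => ↥leechLattice

@[simp] theorem one_symm_apply (p : GolayPt) : (1 : Equiv.Perm GolayPt).symm p = p := rfl

theorem nEl_C0 : nEl ∈ C0 := mem_C0.2 (Subgroup.mem_center_iff.1 nEl_center eps)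

/-- negation in the centraliser -/
noncomputable def nC : ↥C0 := ⟨nEl, nEl_C0⟩

/-- the sign change in the centraliser -/
noncomputable def epsC : ↥C0 := ⟨eps, mem_C0.2 rfl⟩

theorem nC_act {x : Zv} (hx : x ∈ leechLattice) : act (nC : ↥Co0) x = -x := nEl_act hx

/-- elements trivial on the sublattice -/
noncomputable def Q0 : Subgroup ↥C0 where
  carrier := {g | ∀ x ∈ L8, act g x = x}
  one_mem' x hx := by rw [OneMemClass.coe_one, act_one hx.1]
  mul_mem' {a b} ha hb x hx := by rw [Subgroup.coe_mul, act_mul _ _ hx.1, hb x hx, ha x hx]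
  inv_mem' {a} ha x hx := by
    conv_lhs => rw [← ha x hx, ← act_mul _ _ hx.1]
    rw [← Subgroup.coe_mul, inv_mul_cancel, OneMemClass.coe_one, act_one hx.1]

theorem mem_Q0 {g : ↥C0} : g ∈ Q0 ↔ ∀ x ∈ L8, act g x = x := Iff.rfl

instance Q0_normal : Q0.Normal := ⟨fun a ha g x hx => by
  rw [Subgroup.coe_mul, Subgroup.coe_mul, act_mul _ _ hx.1, act_mul _ _ (act_mem _ hx.1), ha _ (act_L8 g⁻¹ hx),
    ← act_mul _ _ hx.1, ← Subgroup.coe_mul, mul_inv_cancel, OneMemClass.coe_one, act_one hx.1]⟩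

theorem Q0_le_ker : Q0 ≤ phi.ker := fun g hg => mem_ker_phi.2 fun x hx => by
  rw [hg x hx, sub_self]; exact zero_mem _

theorem zPrime_mem : nC * epsC ∈ Q0 := fun x hx => by
  show act (nEl * eps) x = x
  rw [act_mul _ _ hx.1, eps_act hx.1, sgn_oct_neg.2 hx.2, nEl_act (neg_mem hx.1), neg_neg]

theorem nC_not_mem : nC ∉ Q0 := fun h => by
  have e := h _ e8_L8
  rw [nC_act (e8 (pt 0)).2] at e
  have := congrFun e (pt 0)
  simp [e8] at this

theorem mono_one_mem {g : ↥C0} {σ : Equiv.Perm GolayPt} {w : GolayPt → ZMod 2} (hσ : σ ∈ fixM oct)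
    (hw : ∀ p ∈ oct, w p = 0) (hm : IsMono (g : ↥Co0) σ w) : g ∈ Q0 := by
  intro x hx
  rw [hm.act hx.1]
  funext p
  by_cases hp : p ∈ oct
  · have hs : σ.symm p = p := by rw [Equiv.symm_apply_eq, (mem_fixM.1 hσ).2 p hp]
    simp [sgn, prm, hw p hp, hs]
  · have h0 : x (σ.symm p) = 0 := hx.2 _ fun hin => hp (by
      have := (mem_fixM.1 hσ).2 _ hin
      rw [Equiv.apply_symm_apply] at this
      rw [this]; exact hin)
    simp [sgn, prm, h0, hx.2 p hp]

theorem Q0_mono {g : ↥C0} (hg : g ∈ Q0) :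
    ∃ σ ∈ fixM oct, ∃ w ∈ golayCode, IsMono (g : ↥Co0) σ w ∧ ∀ p ∈ oct, w p = 0 := by
  obtain ⟨σ, hσ, w, hw, hm, hc⟩ := ker_mono (Q0_le_ker hg)
  refine ⟨σ, hσ, w, hw, hm, fun p hp => ?_⟩
  rw [hc p hp]
  rcases word_eq_one_or_zero (w (pt 0)) with a | a
  · exact a
  · exfalso
    have h0 : pt 0 ∈ oct := by decide +kernel
    have e := hg _ e8_L8
    rw [hm.act (e8 (pt 0)).2] at e
    have := congrFun e (pt 0)
    have hs : σ.symm (pt 0) = pt 0 := by rw [Equiv.symm_apply_eq, (mem_fixM.1 hσ).2 _ h0]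
    simp [sgn, prm, e8, a, hs] at this

theorem ker_cases {g : ↥C0} (hg : g ∈ phi.ker) : g ∈ Q0 ∨ nC * g ∈ Q0 := by
  obtain ⟨σ, hσ, w, hw, hm, hc⟩ := ker_mono hg
  rcases word_eq_one_or_zero (w (pt 0)) with a | a
  · exact Or.inl (mono_one_mem hσ (fun p hp => (hc p hp).trans a) hm)
  · right
    intro x hx
    show act (nEl * (g : ↥Co0)) x = x
    rw [act_mul _ _ hx.1, nEl_act (act_mem _ hx.1), hm.act hx.1]
    funext p
    by_cases hp : p ∈ oct
    · have hs : σ.symm p = p := by rw [Equiv.symm_apply_eq, (mem_fixM.1 hσ).2 p hp]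
      simp [sgn, prm, hc p hp, a, hs]
    · have h0 : x (σ.symm p) = 0 := hx.2 _ fun hin => hp (by
        have := (mem_fixM.1 hσ).2 _ hin
        rw [Equiv.apply_symm_apply] at this
        rw [this]; exact hin)
      simp [sgn, prm, h0, hx.2 p hp]

theorem nC_sq : nC * nC = 1 := Subtype.ext (act_ext fun x hx => by
  show act (nEl * nEl) x = act 1 x
  rw [act_mul _ _ hx, nEl_act (act_mem _ hx), nEl_act hx, neg_neg, act_one hx])

theorem nC_ker : nC ∈ phi.ker := mem_ker_phi.2 fun x hx =>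
  ⟨-x, neg_mem hx, by rw [nC_act hx.1]; abel⟩

theorem card_Q0 : Nat.card ↥Q0 = 512 := by
  have e : Nat.card (↥Q0 × Bool) = Nat.card ↥phi.ker := by
    refine Nat.card_congr (Equiv.ofBijective
      (fun q => ⟨if q.2 then nC * q.1 else q.1, by
        split_ifs
        · exact mul_mem nC_ker (Q0_le_ker q.1.2)
        · exact Q0_le_ker q.1.2⟩) ⟨?_, ?_⟩)
    · rintro ⟨a, s⟩ ⟨b, t⟩ h
      have h' : (if s then nC * (a : ↥C0) else a) = (if t then nC * (b : ↥C0) else b) := congrArg Subtype.val h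
      cases s <;> cases t <;> simp at h'
      · exact Prod.ext h' rfl
      · exact absurd (show nC ∈ Q0 by
          have h2 := mul_mem a.2 (inv_mem b.2)
          rwa [h', mul_inv_cancel_right] at h2) nC_not_mem
      · exact absurd (show nC ∈ Q0 by
          have h2 := mul_mem b.2 (inv_mem a.2)
          rwa [← h', mul_inv_cancel_right] at h2) nC_not_mem
      · exact Prod.ext h' rfl
    · rintro ⟨g, hg⟩
      rcases ker_cases hg with h | h
      · exact ⟨(⟨g, h⟩, false), rfl⟩
      · exact ⟨(⟨_, h⟩, true), Subtype.ext (by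
          show nC * (nC * g) = g
          rw [← mul_assoc, nC_sq, one_mul])⟩
  rw [Nat.card_prod, card_ker, Nat.card_eq_fintype_card (α := Bool), Fintype.card_bool] at e
  omega

/-! ### words -/

theorem separate_off : ∀ p : GolayPt, p ∉ oct → ∀ q : GolayPt, q ∉ oct → p ≠ q → ∃ m ∈ constMasks,
    Nat.land m 5279 = 0 ∧ Nat.testBit m (idx p) ≠ Nat.testBit m (idx q) := by decide +kernel

theorem pair_word : ∀ i ∈ oct, ∀ j ∈ oct, i ≠ j → ∃ m ∈ codeMasks,
    Nat.land m 5279 = 2 ^ idx i + 2 ^ idx j := by decide +kernel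

theorem pair_bits : ∀ i ∈ oct, ∀ j ∈ oct, i ≠ j → ∀ p ∈ oct,
    Nat.testBit (2 ^ idx i + 2 ^ idx j) (idx p) = (decide (p = i) || decide (p = j)) := by decide +kernel

theorem word_of_mask {m : ℕ} (hm : m ∈ codeMasks) : ofMaskW m ∈ golayCode :=
  mem_code_of_support hm (support₂_ofMaskW m)

theorem zero_on_oct {m : ℕ} (h : Nat.land m 5279 = 0) : ∀ p ∈ oct, ofMaskW m p = 0 := by
  intro p hp
  have h2 : Nat.testBit (m &&& 5279) (idx p) = false := by rw [show m &&& 5279 = 0 from h]; simp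
  rw [Nat.testBit_and, mem_ofMask.1 hp, Bool.and_true] at h2
  simp [ofMaskW, h2]

/-- a permutation fixing the outside of the octad is trivial -/
theorem perm_trivial {σ : Equiv.Perm GolayPt} (hσ : σ ∈ stabM oct) (h : ∀ p, p ∉ oct → σ p = p) : σ = 1 := by
  obtain ⟨hM, hst⟩ := mem_stabM.1 hσ
  have hmem : ∀ {p}, σ p ∈ oct ↔ p ∈ oct := fun {p} =>
    ⟨fun h => by rw [← hst] at h; exact (Finset.smul_mem_smul_finset_iff σ).1 h,
      fun h => hst ▸ Finset.smul_mem_smul_finset h⟩
  refine Equiv.ext fun i => ?_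
  by_cases hi : i ∈ oct
  swap
  · exact h i hi
  by_contra hne
  rw [Equiv.Perm.one_apply] at hne
  obtain ⟨j, hj, hj1, hj2⟩ : ∃ j ∈ oct, j ≠ i ∧ j ≠ σ i := by
    have : ∀ a b : GolayPt, ∃ j ∈ oct, j ≠ a ∧ j ≠ b := by decide +kernel
    exact this _ _
  obtain ⟨m, hm, hr⟩ := pair_word i hi j hj (Ne.symm hj1)
  have hval : ∀ p ∈ oct, ofMaskW m p = if p = i ∨ p = j then 1 else 0 := fun p hp => by
    have h2 := pair_bits i hi j hj (Ne.symm hj1) p hp
    rw [← hr, show Nat.land m 5279 = m &&& 5279 from rfl, Nat.testBit_and, mem_ofMask.1 hp, Bool.and_true] at h2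
    by_cases hpe : p = i ∨ p = j
    · rcases hpe with e | e <;> subst e <;> simp at h2 <;> simp [ofMaskW, h2]
    · simp only [not_or] at hpe
      simp [ofMaskW, h2, hpe.1, hpe.2]
  have hu : ofMaskW m + actW σ (ofMaskW m) ∈ golayCode :=
    add_mem (word_of_mask hm) (actW_mem hM (word_of_mask hm))
  have hc := oct_word hu fun p hp => by
    have : σ.symm p = p := by rw [Equiv.symm_apply_eq]; exact (h p hp).symm
    show ofMaskW m p + ofMaskW m (σ.symm p) = 0
    rw [this]; exact CharTwo.add_self_eq_zero _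
  have h1 := hc (σ i) (hmem.2 hi)
  obtain ⟨l, hl, hl1, hl2, hl3, hl4⟩ : ∃ l ∈ oct, l ≠ i ∧ l ≠ j ∧ l ≠ σ i ∧ l ≠ σ j := by
    have h4 : ({i, j, σ i, σ j} : Finset GolayPt).card ≤ 4 := Finset.card_le_four
    have h8 : oct.card = 8 := by decide +kernel
    obtain ⟨k, hk, hk'⟩ := Finset.exists_mem_notMem_of_card_lt_card
      (s := ({i, j, σ i, σ j} : Finset GolayPt)) (t := oct) (by omega)
    simp only [Finset.mem_insert, Finset.mem_singleton, not_or] at hk'
    exact ⟨k, hk, hk'.1, hk'.2.1, hk'.2.2.1, hk'.2.2.2⟩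
  have h2 := hc l hl
  have hl' : σ.symm l ∈ oct := hmem.1 (by rwa [Equiv.apply_symm_apply])
  have a1 : σ.symm l ≠ i := fun e => hl3 (by rw [← e, Equiv.apply_symm_apply])
  have a2 : σ.symm l ≠ j := fun e => hl4 (by rw [← e, Equiv.apply_symm_apply])
  rw [← h2] at h1
  simp only [Pi.add_apply, actW, Equiv.symm_apply_apply] at h1
  rw [hval _ (hmem.2 hi), hval _ hi, hval _ hl, hval _ hl'] at h1
  simp [hne, Ne.symm hj2, hl1, hl2, a1, a2] at h1

theorem octFix_transitive {p : GolayPt} (hp : p ∉ oct) : ∃ τ ∈ fixM oct, τ (pt 5) = p := by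
  obtain ⟨l, hl, h5⟩ := octFix_reg p hp
  obtain ⟨hm, -, hfix⟩ := octFix_ok l hl
  have hlok : lok l = true := by simp only [m24ok, Bool.and_eq_true] at hm; exact hm.1
  refine ⟨lperm l, mem_fixM.2 ⟨lperm_mem hm, fun q hq => idx_injective ?_⟩, idx_injective ?_⟩
  · rw [← rep_lperm hlok q]
    exact hfix _ (idx_lt q) (mem_ofMask.1 hq)
  · rw [← rep_lperm hlok, idx_pt 5 (by norm_num), h5]

theorem fixM_invol {τ : Equiv.Perm GolayPt} (hτ : τ ∈ fixM oct) : τ.symm = τ := by
  have h : τ⁻¹ = τ := inv_eq_of_mul_eq_one_right ((card_fixM_octad baseOctad_mem).2 τ hτ)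
  exact h

theorem fixM_comm {σ τ : Equiv.Perm GolayPt} (hσ : σ ∈ fixM oct) (hτ : τ ∈ fixM oct) : σ * τ = τ * σ := by
  have h2 := (card_fixM_octad baseOctad_mem).2
  have h3 := h2 _ (mul_mem hσ hτ)
  calc σ * τ = (σ * τ)⁻¹ := (inv_eq_of_mul_eq_one_right h3).symm
    _ = τ⁻¹ * σ⁻¹ := mul_inv_rev _ _
    _ = τ * σ := by rw [inv_eq_of_mul_eq_one_right (h2 _ hτ), inv_eq_of_mul_eq_one_right (h2 _ hσ)]

/-- centralising the trivially acting elements up to sign -/
theorem cent_cases {c : ↥C0} (hc : ∀ q ∈ Q0, c * q = q * c ∨ c * q = nC * (q * c)) :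
    c = 1 ∨ c = nC ∨ c = epsC ∨ c = nC * epsC := by
  classical
  have hcomm : ∀ q ∈ Q0, c * q = q * c := by
    intro q hq
    refine (hc q hq).resolve_right fun e => ?_
    have h := congrArg (fun k : ↥C0 => act k (e8 (pt 0) : Zv)) e
    have hcL := act_L8 c e8_L8
    simp only [Subgroup.coe_mul, act_mul _ _ (e8 (pt 0)).2, act_mul _ _ (act_mem _ hcL.1), hq _ e8_L8] at h
    rw [hq _ hcL, nC_act hcL.1] at h
    have h0 : act (c : ↥Co0) (e8 (pt 0) : Zv) = act (c : ↥Co0) 0 := by
      rw [act_zero]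
      funext p
      have := congrFun h p
      simp only [Pi.neg_apply] at this
      simp only [Pi.zero_apply]
      omega
    have := congrFun (act_inj _ (e8 (pt 0)).2 (zero_mem _) h0) (pt 0)
    simp [e8] at this
  have hp0 : pt 5 ∉ oct := by decide +kernel
  have hsingle : ∀ p, p ∉ oct → ∀ k, k ≠ p → act c (e8 p : Zv) k = 0 := by
    intro p hp k hk
    by_cases hko : k ∈ oct
    · refine act_off c (e8 p).2 (fun q hq => ?_) k hko
      have : q ≠ p := fun e => hp (e ▸ hq)
      simp [e8, Pi.single_eq_of_ne this]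
    · obtain ⟨m, hm, hz, hne⟩ := separate_off p hp k hko (Ne.symm hk)
      have hmc : m ∈ codeMasks := (List.mem_filter.1 hm).1
      obtain ⟨g, hg⟩ := mono_exists (one_mem M24) (word_of_mask hmc)
      have hgC : g ∈ C0 := (mono_C0 (σ := 1) hg).2 (one_smul _ _)
      have hQ : (⟨g, hgC⟩ : ↥C0) ∈ Q0 := mono_one_mem (σ := 1) (one_mem _) (zero_on_oct hz) hg
      have h := congrArg (fun j : ↥C0 => act j (e8 p : Zv)) (hcomm _ hQ)
      have hce : act (c : ↥Co0) (e8 p : Zv) ∈ leechLattice := act_mem _ (e8 p).2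
      simp only [Subgroup.coe_mul, act_mul _ _ (e8 p).2] at h
      rw [IsMono.act hg (e8 p).2, IsMono.act hg hce] at h
      have hs : sgn (ofMaskW m) (prm (1 : Equiv.Perm GolayPt) (e8 p : Zv)) =
          if Nat.testBit m (idx p) then -(e8 p : Zv) else (e8 p : Zv) := by
        funext q
        by_cases hq : q = p
        · subst hq
          by_cases ht : Nat.testBit m (idx q) = true <;> simp [sgn, prm, ofMaskW, ht, e8]
        · by_cases ht : Nat.testBit m (idx p) = true <;> simp [sgn, prm, ht, e8, hq]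
      rw [hs] at h
      have hk' := congrFun h k
      by_cases ht : Nat.testBit m (idx p) = true
      · rw [if_pos ht, act_neg _ (e8 p).2] at hk'
        have hf : Nat.testBit m (idx k) = false := by
          cases hb : Nat.testBit m (idx k)
          · rfl
          · exact absurd (ht.trans hb.symm) hne
        simp [sgn, prm, ofMaskW, hf] at hk'
        omega
      · rw [if_neg ht] at hk'
        have hf : Nat.testBit m (idx k) = true := by
          cases hb : Nat.testBit m (idx k)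
          · exact absurd ((Bool.eq_false_iff.2 ht).trans hb.symm) hne
          · rfl
        simp [sgn, prm, ofMaskW, hf] at hk'
        omega
  have hstd : StdStab (c : ↥Co0) := by
    have hv : act c (e8 (pt 5) : Zv) ∈ stdCross := by
      refine ⟨pt 5, act c (e8 (pt 5) : Zv) (pt 5), ?_, funext fun k => ?_⟩
      · have hn := act_norm (c : ↥Co0) (e8 (pt 5)).2
        rw [e8_norm, sqNorm, Finset.sum_eq_single (pt 5) (fun k _ hk => by rw [hsingle _ hp0 k hk]; rfl)
          (fun h => absurd (Finset.mem_univ _) h)] at hn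
        exact sq_eq_sq_iff_eq_or_eq_neg.1 (hn.trans (by norm_num : (64 : ℤ) = 8 ^ 2))
      · by_cases hk : k = pt 5
        · subst hk; simp
        · rw [Pi.single_eq_of_ne hk, hsingle _ hp0 k hk]
    rw [stdStab_iff, imgCross, ← cross_act _ (cross_e8 (pt 5))]
    rw [act_coe] at hv
    exact cross_std ((c : ↥Co0) • e8 (pt 5)).2 hv
  obtain ⟨σ, hσ, w, hw, hm⟩ := M0_form (mem_M0.2 hstd)
  have hfix : ∀ p, p ∉ oct → σ p = p := by
    intro p hp
    by_contra hne
    have h := hsingle p hp (σ p) hne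
    rw [hm.act (e8 p).2] at h
    simp [sgn, prm, e8] at h
    split_ifs at h <;> omega
  obtain rfl := perm_trivial hσ hfix
  have hconst : ∀ p, p ∉ oct → w p = w (pt 5) := by
    intro p hp
    obtain ⟨τ, hτ, e⟩ := octFix_transitive hp
    obtain ⟨g, hg⟩ := mono_exists (mem_fixM.1 hτ).1 (zero_mem golayCode)
    have hgC : g ∈ C0 := (mono_C0 (σ := τ) hg).2 (mem_stabM.1 (fixM_le_stabM oct hτ)).2
    have hQ : (⟨g, hgC⟩ : ↥C0) ∈ Q0 := mono_one_mem hτ (fun _ _ => rfl) hg
    have h := congrArg (fun j : ↥C0 => (j : ↥Co0)) (hcomm _ hQ)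
    simp only [Subgroup.coe_mul] at h
    have h2 := (mono_unique fun v => (mono_mul hm hg v).symm.trans (h ▸ mono_mul hg hm v)).2
    have h3 := congrFun h2 p
    simp [actW] at h3
    rw [h3, ← e, Equiv.symm_apply_apply]
  have hw2 : ∀ p ∈ oct, w p = w (pt 0) := by
    intro p hp
    have h0 : pt 0 ∈ oct := by decide +kernel
    rcases word_eq_one_or_zero (w (pt 5)) with a | a
    · exact oct_word hw (fun q hq => (hconst q hq).trans a) p hp
    · have := oct_word (add_mem hw one_word_mem) (fun q hq => by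
        show w q + 1 = 0
        rw [hconst q hq, a]; decide) p hp
      exact add_right_cancel this
  have key : ∀ (d : ↥C0) (u : GolayPt → ZMod 2), IsMono (d : ↥Co0) 1 u → (∀ p, w p = u p) → c = d :=
    fun d u hd hu => Subtype.ext (co0_ext fun v => by rw [hm, hd, funext hu])
  have m1 : IsMono ((1 : ↥C0) : ↥Co0) 1 0 := fun v => by
    rw [OneMemClass.coe_one, one_smul]; funext k; simp [sgn, prm]
  have mn : IsMono (nC : ↥Co0) 1 1 := fun v => by
    rw [← act_coe, nC_act v.2]; funext k; simp [sgn, prm]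
  have me : IsMono (epsC : ↥Co0) 1 octW := eps_mono
  have mne : IsMono ((nC * epsC : ↥C0) : ↥Co0) 1 (1 + octW) := fun v => by
    rw [Subgroup.coe_mul, mono_mul mn me, mul_one]; rfl
  rcases word_eq_one_or_zero (w (pt 0)) with a | a <;> rcases word_eq_one_or_zero (w (pt 5)) with b | b
  · exact Or.inl (key 1 0 m1 fun p => by
      by_cases hp : p ∈ oct
      · rw [hw2 p hp, a]; rfl
      · rw [hconst p hp, b]; rfl)
  · exact Or.inr (Or.inr (Or.inr (key _ _ mne fun p => by
      by_cases hp : p ∈ oct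
      · rw [hw2 p hp, a, Pi.add_apply, octW_val, if_pos hp]; rfl
      · rw [hconst p hp, b, Pi.add_apply, octW_val, if_neg hp]; rfl)))
  · exact Or.inr (Or.inr (Or.inl (key _ _ me fun p => by
      by_cases hp : p ∈ oct
      · rw [hw2 p hp, a, octW_val, if_pos hp]
      · rw [hconst p hp, b, octW_val, if_neg hp])))
  · exact Or.inr (Or.inl (key _ _ mn fun p => by
      by_cases hp : p ∈ oct
      · rw [hw2 p hp, a]; rfl
      · rw [hconst p hp, b]; rfl))

theorem diff_const : ∀ l ∈ octFixElems, ∀ m ∈ constMasks, Nat.land m 5279 = 0 → ∀ p : GolayPt, p ∉ oct →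
    xor (Nat.testBit m (l.getD (idx p) 0)) (Nat.testBit m (idx p)) =
      xor (Nat.testBit m (l.getD 5 0)) (Nat.testBit m 5) := by decide +kernel

theorem diff_word {σ : Equiv.Perm GolayPt} (hσ : σ ∈ fixM oct) {w : GolayPt → ZMod 2} (hw : w ∈ golayCode)
    (h0 : ∀ p ∈ oct, w p = 0) :
    w + actW σ w = 0 ∨ w + actW σ w = 1 + octW := by
  have hσ' : σ ∈ fixL M24 (chainBase.take 6) := fixM_base ▸ hσ
  obtain ⟨l, hl, rfl⟩ := fixSix_elem hσ'
  obtain ⟨hm, -, -⟩ := octFix_ok l hl
  have hlok : lok l = true := by simp only [m24ok, Bool.and_eq_true] at hm; exact hm.1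
  have hw' : w = ofMaskW (wmask w) := support₂_injective (by rw [support₂_ofMaskW, wmask, ofMask_mask])
  have hz : ∀ p ∈ oct, Nat.testBit (wmask w) (idx p) = false := fun p hp => by
    have := h0 p hp
    rw [hw'] at this
    simpa [ofMaskW] using this
  have hland : Nat.land (wmask w) 5279 = 0 := by
    show wmask w &&& 5279 = 0
    refine Nat.eq_of_testBit_eq fun k => ?_
    rw [Nat.testBit_and, Nat.zero_testBit]
    by_cases hk : k < 24
    · by_cases hp : pt k ∈ oct
      · have := hz _ hp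
        rw [idx_pt _ hk] at this
        rw [this]; rfl
      · rw [mem_ofMask, idx_pt _ hk, Bool.not_eq_true] at hp
        rw [hp, Bool.and_false]
    · rw [Nat.testBit_lt_two_pow (show wmask w < 2 ^ k from (mask_lt _).trans_le (Nat.pow_le_pow_right (by norm_num) (not_lt.1 hk)))]
      rfl
  have hmem : wmask w ∈ constMasks := by
    rw [constMasks_facts.2.2 _ (mem_code.1 hw)]
    intro p hp
    rw [hz p hp, hz (pt 0) (by decide +kernel)]
  have hl' : ∀ p, (w + actW (lperm l) w) p =
      if xor (Nat.testBit (wmask w) (l.getD (idx p) 0)) (Nat.testBit (wmask w) (idx p)) then 1 else 0 := by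
    intro p
    rw [Pi.add_apply, actW, fixM_invol hσ, rep_lperm hlok p]
    have hval : ∀ q, w q = if Nat.testBit (wmask w) (idx q) then 1 else 0 := fun q => congrFun hw' q
    rw [hval p, hval (lperm l p)]
    cases Nat.testBit (wmask w) (idx (lperm l p)) <;> cases Nat.testBit (wmask w) (idx p) <;> simp
    decide
  have hin : ∀ p ∈ oct, (w + actW (lperm l) w) p = 0 := fun p hp => by
    rw [Pi.add_apply, actW, fixM_invol hσ, (mem_fixM.1 hσ).2 p hp, h0 p hp, add_zero]
  by_cases hb : xor (Nat.testBit (wmask w) (l.getD 5 0)) (Nat.testBit (wmask w) 5) = true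
  · right
    funext p
    by_cases hp : p ∈ oct
    · rw [hin p hp, Pi.add_apply, octW_val, if_pos hp]; rfl
    · rw [hl', diff_const l hl _ hmem hland p hp, if_pos hb, Pi.add_apply, octW_val, if_neg hp]; rfl
  · left
    funext p
    by_cases hp : p ∈ oct
    · rw [hin p hp]; rfl
    · rw [hl', diff_const l hl _ hmem hland p hp, if_neg hb]; rfl

theorem zPrime_mono : IsMono ((nC * epsC : ↥C0) : ↥Co0) 1 (1 + octW) := fun v => by
  have mn : IsMono (nC : ↥Co0) 1 1 := fun v => by
    rw [← act_coe, nC_act v.2]; funext k; simp [sgn, prm]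
  have me : IsMono (epsC : ↥Co0) 1 octW := eps_mono
  rw [Subgroup.coe_mul, mono_mul mn me, mul_one]; rfl

theorem comm_cases {a b : ↥C0} (ha : a ∈ Q0) (hb : b ∈ Q0) : a * b = b * a ∨ a * b = nC * epsC * (b * a) := by
  obtain ⟨σ, hσ, u, hu, hma, hu0⟩ := Q0_mono ha
  obtain ⟨τ, hτ, w, hw, hmb, hw0⟩ := Q0_mono hb
  have hab := mono_mul hma hmb
  have hba := mono_mul hmb hma
  rw [fixM_comm hτ hσ] at hba
  have hsum : (u + actW σ w) + (w + actW τ u) = 0 ∨ (u + actW σ w) + (w + actW τ u) = 1 + octW := by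
    rw [show (u + actW σ w) + (w + actW τ u) = (u + actW τ u) + (w + actW σ w) by abel]
    rcases diff_word hτ hu hu0 with e | e <;> rcases diff_word hσ hw hw0 with e' | e' <;> rw [e, e']
    · left; rw [add_zero]
    · right; rw [zero_add]
    · right; rw [add_zero]
    · left; funext p; exact CharTwo.add_self_eq_zero (R := ZMod 2) _
  rcases hsum with e | e
  · left
    refine Subtype.ext (co0_ext fun v => ?_)
    rw [Subgroup.coe_mul, Subgroup.coe_mul, hab, hba]
    congr 1
    funext p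
    exact (CharTwo.add_eq_zero (R := ZMod 2)).1 (congrFun e p)
  · right
    refine Subtype.ext (co0_ext fun v => ?_)
    have h2 := mono_mul zPrime_mono (g := ((nC * epsC : ↥C0) : ↥Co0)) (h := ((b * a : ↥C0) : ↥Co0))
      (fun v => by rw [Subgroup.coe_mul]; exact hba v) v
    rw [Subgroup.coe_mul, hab, Subgroup.coe_mul (H := C0) (nC * epsC), h2, one_mul]
    congr 1
    funext p
    have := congrFun e p
    simp only [Pi.add_apply, actW] at this ⊢
    revert this
    simp only [show ((1 : Equiv.Perm GolayPt).symm p) = p from rfl]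
    generalize u p = x1
    generalize w (σ.symm p) = x2
    generalize w p = x3
    generalize u (τ.symm p) = x4
    generalize (1 : GolayPt → ZMod 2) p = x5
    generalize octW p = x6
    revert x1 x2 x3 x4 x5 x6
    decide

theorem sq_cases {a : ↥C0} (ha : a ∈ Q0) : a * a = 1 ∨ a * a = nC * epsC := by
  obtain ⟨σ, hσ, u, hu, hma, hu0⟩ := Q0_mono ha
  have haa := mono_mul hma hma
  rw [(card_fixM_octad baseOctad_mem).2 σ hσ] at haa
  rcases diff_word hσ hu hu0 with e | e
  · left
    refine Subtype.ext (co0_ext fun v => ?_)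
    rw [Subgroup.coe_mul, haa, e, OneMemClass.coe_one, one_smul]
    funext k; simp [sgn, prm]
  · right
    refine Subtype.ext (co0_ext fun v => ?_)
    rw [Subgroup.coe_mul, haa, e, zPrime_mono v]

end Cfsg.Agent.Spor.Co1Invol
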