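/-
An involution of the first Conway group with centraliser extraspecial of order 2^9 extended by the
simple orthogonal group of plus type in dimension eight.
-/
import Cfsg.Agent.Lib.Spor.Co1Invol.Kernel
import Cfsg.Agent.Lib.Classical.OrthPSimple
import Cfsg.Agent.Lib.Fusion.LocalConstrained
import Cfsg.Agent.Lib.Solv.Extraspecial
import Cfsg.Prelude.Def_Spor_Conway

set_option autoImplicit false
set_option maxRecDepth 100000

namespace Cfsg.Agent.Spor.Co1Invol

open Cfsg Cfsg.Agent.Spor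
open scoped Pointwise commutatorElement

local notation "Zv" => GolayPt → ℤ
set_option quotPrecheck false in
local notation "Lv" => ↥leechLattice

/-- the involution -/
noncomputable def zC : Cfsg.Spor.Co1 := QuotientGroup.mk eps

theorem oct_signs : ∑ p : GolayPt, (if octW p = 0 then (1 : ℤ) else -1) = 8 := by decide +kernel

/-- the sign change is not conjugate to its negative -/
theorem conj_ne {g : ↥Co0} : g * eps ≠ nEl * (eps * g) := by
  intro e
  have hu : ∀ i, ∀ k, (8 : ℤ) * (if k = i then 8 else 0) =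
      ∑ j, act g⁻¹ (e8 i : Zv) j * act g (e8 j : Zv) k := by
    intro i k
    have h := eight_expand g (g⁻¹ • e8 i) k
    rw [smul_inv_smul] at h
    simp only [← act_coe] at h
    rw [← h, show (e8 i : Zv) k = if k = i then (8 : ℤ) else 0 by simp [e8, Pi.single_apply]]
  have hv : ∀ j, ∀ k, (8 : ℤ) * (if k = j then 8 else 0) =
      ∑ i, act g (e8 j : Zv) i * act g⁻¹ (e8 i : Zv) k := by
    intro j k
    have h := eight_expand g⁻¹ (g • e8 j) k
    rw [inv_smul_smul] at h
    simp only [← act_coe] at h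
    rw [← h, show (e8 j : Zv) k = if k = j then (8 : ℤ) else 0 by simp [e8, Pi.single_apply]]
  have hsum : ∀ i : GolayPt, ∑ j, (if octW j = 0 then (1 : ℤ) else -1) *
      (act g⁻¹ (e8 i : Zv) j * act g (e8 j : Zv) i) = -(64 * (if octW i = 0 then (1 : ℤ) else -1)) := by
    intro i
    have hm : act g⁻¹ (e8 i : Zv) ∈ leechLattice := act_mem _ (e8 i).2
    have h := congrArg (fun k => act k (act g⁻¹ (e8 i : Zv))) e
    simp only [act_mul _ _ hm, nEl_act (act_mem _ (act_mem _ hm))] at h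
    rw [eps_act hm, eps_act (act_mem _ hm), ← act_mul _ _ (e8 i).2, mul_inv_cancel, act_one (e8 i).2] at h
    have h2 := eight_expand g (⟨_, sgn_mem octW_mem hm⟩ : Lv) i
    simp only [← act_coe] at h2
    rw [h] at h2
    refine Eq.trans ?_ (h2.symm.trans ?_)
    · refine Finset.sum_congr rfl fun j _ => ?_
      by_cases hj : octW j = 0 <;> simp [sgn, hj]
    · by_cases hi : octW i = 0 <;> simp [sgn, hi, e8]
  have h1 : ∑ i, ∑ j, (if octW j = 0 then (1 : ℤ) else -1) *
      (act g⁻¹ (e8 i : Zv) j * act g (e8 j : Zv) i) = -(64 * 8) := by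
    rw [Finset.sum_congr rfl fun i _ => hsum i, Finset.sum_neg_distrib, ← Finset.mul_sum, oct_signs]
  rw [Finset.sum_comm, Finset.sum_congr rfl fun j _ => (Finset.mul_sum _ _ _).symm] at h1
  have h2 : ∀ j, ∑ i, act g⁻¹ (e8 i : Zv) j * act g (e8 j : Zv) i = 64 := fun j => by
    have := hv j j
    rw [if_pos rfl] at this
    refine (Finset.sum_congr rfl fun i _ => mul_comm _ _).trans ?_
    rw [← this]; norm_num
  rw [Finset.sum_congr rfl fun j _ => congrArg (fun s => (if octW j = 0 then (1 : ℤ) else -1) * s) (h2 j),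
    ← Finset.sum_mul, oct_signs] at h1
  norm_num at h1

/-- projection onto the centraliser -/
noncomputable def psi : ↥C0 →* ↥(Subgroup.centralizer ({zC} : Set Cfsg.Spor.Co1)) :=
  ((QuotientGroup.mk' (Subgroup.center ↥Co0)).comp C0.subtype).codRestrict _ fun g => by
    rw [Subgroup.mem_centralizer_singleton_iff]
    show QuotientGroup.mk (g : ↥Co0) * QuotientGroup.mk eps = QuotientGroup.mk eps * QuotientGroup.mk (g : ↥Co0)
    rw [← QuotientGroup.mk_mul, ← QuotientGroup.mk_mul, mem_C0.1 g.2]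

theorem psi_eq_iff {a b : ↥C0} : psi a = psi b ↔ b = a ∨ b = nC * a := by
  constructor
  · intro h
    have h' : (QuotientGroup.mk (a : ↥Co0) : Cfsg.Spor.Co1) = QuotientGroup.mk (b : ↥Co0) := congrArg Subtype.val h
    rw [QuotientGroup.eq] at h'
    rcases center_two h' with e | e
    · left; exact Subtype.ext (inv_mul_eq_one.1 e).symm
    · right
      refine Subtype.ext ?_
      rw [inv_mul_eq_iff_eq_mul] at e
      rw [e]
      exact Subgroup.mem_center_iff.1 nEl_center (a : ↥Co0)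
  · rintro (rfl | rfl)
    · rfl
    · refine Subtype.ext (QuotientGroup.eq.2 ?_)
      have : (a : ↥Co0)⁻¹ * ((nC * a : ↥C0) : ↥Co0) = nEl := by
        rw [Subgroup.coe_mul, show (nC : ↥Co0) * a = a * nC from (Subgroup.mem_center_iff.1 nEl_center _).symm,
          inv_mul_cancel_left]
        rfl
      show (a : ↥Co0)⁻¹ * ((nC * a : ↥C0) : ↥Co0) ∈ Subgroup.center ↥Co0
      rw [this]; exact nEl_center

theorem psi_surjective : Function.Surjective psi := by
  rintro ⟨x, hx⟩
  obtain ⟨g, rfl⟩ := QuotientGroup.mk_surjective x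
  rw [Subgroup.mem_centralizer_singleton_iff, zC, ← QuotientGroup.mk_mul, ← QuotientGroup.mk_mul,
    QuotientGroup.eq] at hx
  rcases center_two hx with e | e
  · exact ⟨⟨g, mem_C0.2 (inv_mul_eq_one.1 e).symm⟩, rfl⟩
  · exfalso
    rw [inv_mul_eq_iff_eq_mul] at e
    refine conj_ne (g := g) ?_
    rw [e, ← mul_assoc, ← Subgroup.mem_center_iff.1 nEl_center (g * eps), mul_assoc (g * eps),
      show nEl * nEl = 1 from congrArg Subtype.val nC_sq, mul_one]

theorem psi_nC : psi nC = 1 := by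
  rw [← map_one psi, psi_eq_iff]
  right
  rw [← nC_sq]

/-- the extraspecial subgroup -/
noncomputable def QC : Subgroup ↥(Subgroup.centralizer ({zC} : Set Cfsg.Spor.Co1)) := Q0.map psi

instance QC_normal : QC.Normal := Subgroup.Normal.map inferInstance psi psi_surjective

theorem mem_QC {x : ↥C0} : psi x ∈ QC ↔ x ∈ Q0 ∨ nC * x ∈ Q0 := by
  constructor
  · rintro ⟨a, ha, e⟩
    rcases psi_eq_iff.1 e with e | e
    · exact Or.inl (e ▸ ha)
    · right
      rw [e, ← mul_assoc, nC_sq, one_mul]; exact ha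
  · rintro (h | h)
    · exact ⟨x, h, rfl⟩
    · exact ⟨_, h, by rw [map_mul, psi_nC, one_mul]⟩

theorem psi_inj_Q0 {a b : ↥C0} (ha : a ∈ Q0) (hb : b ∈ Q0) (h : psi a = psi b) : a = b := by
  rcases psi_eq_iff.1 h with e | e
  · exact e.symm
  · refine absurd ?_ nC_not_mem
    have := mul_mem hb (inv_mem ha)
    rwa [e, mul_inv_cancel_right] at this

theorem card_QC : Nat.card ↥QC = 2 ^ 9 := by
  rw [show (2 : ℕ) ^ 9 = Nat.card ↥Q0 by rw [card_Q0]; norm_num]
  refine (Nat.card_congr (Equiv.ofBijective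
    (fun a : ↥Q0 => (⟨psi a, a, a.2, rfl⟩ : ↥QC)) ⟨fun a b h => ?_, ?_⟩)).symm
  · exact Subtype.ext (psi_inj_Q0 a.2 b.2 (congrArg Subtype.val h))
  · rintro ⟨_, a, ha, rfl⟩
    exact ⟨⟨a, ha⟩, rfl⟩

theorem psi_eps : psi epsC = ⟨zC, Subgroup.mem_centralizer_singleton_iff.2 rfl⟩ := rfl

theorem zc_ne_one : psi epsC ≠ 1 := by
  rw [← map_one psi]
  intro h
  have hp : pt 5 ∉ oct := by decide +kernel
  have hq : pt 0 ∈ oct := by decide +kernel
  rcases psi_eq_iff.1 h with e | e
  · have := congrFun (congrArg (fun k : ↥C0 => act k (e8 (pt 0) : Zv)) e) (pt 0)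
    simp only [OneMemClass.coe_one, act_one (e8 (pt 0)).2] at this
    rw [show ((epsC : ↥C0) : ↥Co0) = eps from rfl, eps_act (e8 (pt 0)).2] at this
    simp [sgn, e8, octW_val, hq] at this
  · have h2 := congrFun (congrArg (fun k : ↥C0 => act k (e8 (pt 5) : Zv)) e) (pt 5)
    simp only [OneMemClass.coe_one, act_one (e8 (pt 5)).2, Subgroup.coe_mul, act_mul _ _ (e8 (pt 5)).2] at h2
    rw [show ((epsC : ↥C0) : ↥Co0) = eps from rfl, eps_act (e8 (pt 5)).2, nC_act (sgn_mem octW_mem (e8 (pt 5)).2)] at h2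
    simp [sgn, e8, octW_val, hp] at h2

theorem zc_mem : psi epsC ∈ QC := mem_QC.2 (Or.inr zPrime_mem)

theorem psi_zPrime : psi (nC * epsC) = psi epsC := by rw [map_mul, psi_nC, one_mul]

theorem cent_QC {x : ↥C0} (h : ∀ q ∈ QC, q * psi x = psi x * q) : psi x = 1 ∨ psi x = psi epsC := by
  have hc : ∀ q ∈ Q0, x * q = q * x ∨ x * q = nC * (q * x) := fun q hq => by
    have e := h _ ⟨q, hq, rfl⟩
    rw [← map_mul, ← map_mul] at e
    rcases psi_eq_iff.1 e with e | e
    · exact Or.inl e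
    · exact Or.inr e
  rcases cent_cases hc with rfl | rfl | rfl | rfl
  · exact Or.inl (map_one _)
  · exact Or.inl psi_nC
  · exact Or.inr rfl
  · exact Or.inr psi_zPrime

theorem extraspecial : Cfsg.IsExtraspecial 2 ↥QC := by
  haveI : Fact (Nat.Prime 2) := ⟨Nat.prime_two⟩
  haveI : Finite ↥QC := Nat.finite_of_card_ne_zero (by rw [card_QC]; norm_num)
  have hz : ∀ y : ↥C0, psi epsC * psi y = psi y * psi epsC := fun y => by
    rw [← map_mul, ← map_mul]; exact congrArg psi (Subtype.ext (mem_C0.1 y.2))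
  have hcen : ∀ x : ↥QC, x ∈ Subgroup.center ↥QC ↔ x = 1 ∨ x = ⟨psi epsC, zc_mem⟩ := by
    rintro ⟨_, a, ha, rfl⟩
    rw [Subgroup.mem_center_iff]
    constructor
    · intro h
      rcases cent_QC (x := a) (fun q hq => congrArg Subtype.val (h ⟨q, hq⟩)) with e | e
      · exact Or.inl (Subtype.ext e)
      · exact Or.inr (Subtype.ext e)
    · intro h y
      rcases h with h | h <;> rw [h]
      · rw [one_mul, mul_one]
      · obtain ⟨_, b, hb, rfl⟩ := y
        exact Subtype.ext (hz b).symm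
  refine Cfsg.Agent.Solv.isExtraspecial_of (IsPGroup.of_card card_QC) ?_ (le_antisymm ?_ ?_) ?_
  · rw [Nat.card_eq_two_iff]
    refine ⟨1, ⟨⟨psi epsC, zc_mem⟩, (hcen _).2 (Or.inr rfl)⟩, fun e => zc_ne_one ?_,
      Set.eq_univ_of_forall fun x => ?_⟩
    · exact (congrArg (fun y : Subgroup.center ↥QC => ((y : ↥QC) : ↥(Subgroup.centralizer ({zC} : Set Cfsg.Spor.Co1)))) e).symm
    · rcases (hcen x.1).1 x.2 with e | e
      exacts [Or.inl (Subtype.ext e), Or.inr (Subtype.ext e)]
  · rw [commutator_def, Subgroup.commutator_le]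
    rintro ⟨_, a, ha, rfl⟩ - ⟨_, b, hb, rfl⟩ -
    rw [hcen]
    rcases comm_cases ha hb with e | e
    · left
      rw [commutatorElement_eq_one_iff_mul_comm]
      exact Subtype.ext (by show psi a * psi b = psi b * psi a; rw [← map_mul, ← map_mul, e])
    · right
      apply Subtype.ext
      show psi a * psi b * (psi a)⁻¹ * (psi b)⁻¹ = psi epsC
      rw [← map_mul, e, map_mul (psi) (nC * epsC), psi_zPrime, map_mul]; group
  · intro x hx
    rcases (hcen x).1 hx with rfl | rfl
    · exact one_mem _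
    · obtain ⟨a, ha, b, hb, hab⟩ : ∃ a ∈ Q0, ∃ b ∈ Q0, a * b ≠ b * a := by
        by_contra hno
        push Not at hno
        have h1 : ∀ x : ↥QC, x ∈ Subgroup.center ↥QC := by
          rintro ⟨_, a, ha, rfl⟩
          rw [Subgroup.mem_center_iff]
          rintro ⟨_, b, hb, rfl⟩
          exact Subtype.ext (by show psi b * psi a = psi a * psi b; rw [← map_mul, ← map_mul, hno b hb a ha])
        have h2 : (Set.univ : Set ↥QC) ⊆ {1, ⟨psi epsC, zc_mem⟩} := fun x _ => (hcen x).1 (h1 x)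
        have h3 := Set.ncard_le_ncard h2
        rw [Set.ncard_univ, card_QC] at h3
        have h4 : ({1, ⟨psi epsC, zc_mem⟩} : Set ↥QC).ncard ≤ 2 := (Set.ncard_insert_le _ _).trans (by simp)
        omega
      have e := (comm_cases ha hb).resolve_left hab
      have hc : ⁅(⟨psi a, a, ha, rfl⟩ : ↥QC), (⟨psi b, b, hb, rfl⟩ : ↥QC)⁆ = (⟨psi epsC, zc_mem⟩ : ↥QC) := by
        apply Subtype.ext
        show psi a * psi b * (psi a)⁻¹ * (psi b)⁻¹ = psi epsC
        rw [← map_mul, e, map_mul (psi) (nC * epsC), psi_zPrime, map_mul]; group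
      rw [← hc, commutator_def]
      exact Subgroup.commutator_mem_commutator (Subgroup.mem_top _) (Subgroup.mem_top _)
  · rintro ⟨_, a, ha, rfl⟩
    rw [hcen]
    rcases sq_cases ha with e | e
    · exact Or.inl (Subtype.ext (by rw [SubmonoidClass.coe_pow, sq, ← map_mul, e, map_one]; rfl))
    · exact Or.inr (Subtype.ext (by rw [SubmonoidClass.coe_pow, sq, ← map_mul, e, psi_zPrime]))

theorem ker_psi_le : psi.ker ≤ phi.ker := by
  intro x hx
  rw [MonoidHom.mem_ker, ← map_one psi] at hx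
  rcases psi_eq_iff.1 hx.symm with e | e
  · rw [e]; exact one_mem _
  · rw [e, mul_one]; exact nC_ker

/-- the map of the centraliser to the orthogonal group -/
noncomputable def phiC : ↥(Subgroup.centralizer ({zC} : Set Cfsg.Spor.Co1)) →*
    ↥(Omega (ZMod 2) (quadFormPlus 4 (ZMod 2))) :=
  MonoidHom.liftOfSurjective psi psi_surjective
    ⟨(MulEquiv.subgroupCongr range_phi).toMonoidHom.comp phi.rangeRestrict, fun x hx => by
      have := ker_psi_le hx
      rw [MonoidHom.mem_ker] at this ⊢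
      show (MulEquiv.subgroupCongr range_phi) (phi.rangeRestrict x) = 1
      rw [show phi.rangeRestrict x = 1 from Subtype.ext this, map_one]⟩

theorem phiC_psi (x : ↥C0) :
    phiC (psi x) = MulEquiv.subgroupCongr range_phi (phi.rangeRestrict x) :=
  MonoidHom.liftOfRightInverse_comp_apply psi _ (Function.rightInverse_surjInv psi_surjective) _ x

theorem phiC_surjective : Function.Surjective phiC := fun y => by
  obtain ⟨x, hx⟩ := phi.rangeRestrict_surjective ((MulEquiv.subgroupCongr range_phi).symm y)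
  exact ⟨psi x, by rw [phiC_psi, hx, MulEquiv.apply_symm_apply]⟩

theorem ker_phiC : phiC.ker = QC := by
  ext y
  obtain ⟨x, rfl⟩ := psi_surjective y
  rw [MonoidHom.mem_ker, phiC_psi, MulEquiv.map_eq_one_iff, mem_QC]
  constructor
  · intro h
    exact ker_cases (MonoidHom.mem_ker.2 (congrArg Subtype.val h))
  · intro h
    refine Subtype.ext (MonoidHom.mem_ker.1 ?_)
    rcases h with h | h
    · exact Q0_le_ker h
    · have h2 := mul_mem nC_ker (Q0_le_ker h)
      rwa [← mul_assoc, nC_sq, one_mul] at h2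

theorem quot_iso : Nonempty ((Subgroup.centralizer ({zC} : Set Cfsg.Spor.Co1)) ⧸ QC ≃*
    ↥(Omega (ZMod 2) (quadFormPlus 4 (ZMod 2)))) :=
  ⟨(QuotientGroup.quotientMulEquivOfEq ker_phiC.symm).trans
    (QuotientGroup.quotientKerEquivOfSurjective phiC phiC_surjective)⟩

theorem omega_no_pgroup (N : Subgroup ↥(Omega (ZMod 2) (quadFormPlus 4 (ZMod 2)))) [N.Normal]
    (hN : IsPGroup 2 N) : N = ⊥ := by
  haveI : Fact (Nat.Prime 2) := ⟨Nat.prime_two⟩
  have hcard : Nat.card ↥(Omega (ZMod 2) (quadFormPlus 4 (ZMod 2))) = 174182400 := by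
    rw [← card_range_phi, range_phi]
  haveI : Finite ↥(Omega (ZMod 2) (quadFormPlus 4 (ZMod 2))) := Nat.finite_of_card_ne_zero (by rw [hcard]; norm_num)
  have hsimp : IsSimpleGroup (POmega (ZMod 2) (quadFormPlus 4 (ZMod 2))) := by
    rw [← Cfsg.Agent.Classical.OOmega.coe_plus 4]
    exact Cfsg.Agent.Classical.OOmega.simple_standard Cfsg.Agent.Classical.OOmega.pnd_empty (by norm_num)
  have hP : Nat.card (POmega (ZMod 2) (quadFormPlus 4 (ZMod 2))) = 174182400 := by
    have h := Cfsg.Agent.Classical.OOmega.card_POmega_plus (F := ZMod 2) (m := 4) (by norm_num)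
    norm_num [Finset.prod_range_succ, ZMod.card] at h
    exact h
  have hz : Nat.card ↥(Subgroup.center ↥(Omega (ZMod 2) (quadFormPlus 4 (ZMod 2)))) = 1 := by
    have h := Subgroup.card_eq_card_quotient_mul_card_subgroup
      (Subgroup.center ↥(Omega (ZMod 2) (quadFormPlus 4 (ZMod 2))))
    rw [hcard] at h
    change 174182400 = Nat.card (POmega (ZMod 2) (quadFormPlus 4 (ZMod 2))) * _ at h
    rw [hP] at h
    omega
  have hmk : Function.Surjective
      (QuotientGroup.mk' (Subgroup.center ↥(Omega (ZMod 2) (quadFormPlus 4 (ZMod 2))))) :=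
    QuotientGroup.mk'_surjective _
  have himg : IsPGroup 2 (N.map (QuotientGroup.mk' (Subgroup.center _))) := hN.map _
  haveI : (N.map (QuotientGroup.mk' (Subgroup.center ↥(Omega (ZMod 2) (quadFormPlus 4 (ZMod 2)))))).Normal :=
    Subgroup.Normal.map inferInstance _ hmk
  rcases hsimp.eq_bot_or_eq_top_of_normal _ this with h | h
  · rw [Subgroup.map_eq_bot_iff, QuotientGroup.ker_mk'] at h
    refine le_bot_iff.1 (h.trans ?_)
    rw [Subgroup.eq_bot_of_card_eq _ hz]
  · exfalso
    obtain ⟨k, hk⟩ := IsPGroup.iff_card.1 himg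
    rw [h, Subgroup.card_top] at hk
    change Nat.card (POmega (ZMod 2) (quadFormPlus 4 (ZMod 2))) = 2 ^ k at hk
    rw [hP] at hk
    have h3 : 3 ∣ 2 ^ k := hk ▸ (by norm_num)
    have := (Nat.Prime.dvd_of_dvd_pow Nat.prime_three h3)
    norm_num at this

theorem gfit_eq : Cfsg.generalizedFittingSubgroup ↥(Subgroup.centralizer ({zC} : Set Cfsg.Spor.Co1)) = QC := by
  haveI : Fact (Nat.Prime 2) := ⟨Nat.prime_two⟩
  haveI : Finite ↥Co0 := co0_finite
  haveI : Finite ↥(Subgroup.centralizer ({zC} : Set Cfsg.Spor.Co1)) := Subtype.finite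
  have hle : QC ≤ Cfsg.pCore 2 _ := Cfsg.Agent.Fusion.le_pCore (IsPGroup.of_card card_QC)
  have heq : Cfsg.pCore 2 ↥(Subgroup.centralizer ({zC} : Set Cfsg.Spor.Co1)) = QC := by
    refine le_antisymm ?_ hle
    haveI : ((Cfsg.pCore 2 ↥(Subgroup.centralizer ({zC} : Set Cfsg.Spor.Co1))).map phiC).Normal :=
      Subgroup.Normal.map inferInstance _ phiC_surjective
    have h := omega_no_pgroup _ ((Cfsg.Agent.Fusion.isPGroup_pCore 2 _).map phiC)
    rwa [Subgroup.map_eq_bot_iff, ker_phiC] at h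
  rw [← heq, Cfsg.Agent.Fusion.gfit_eq_pCore_iff, heq]
  intro y hy
  obtain ⟨x, rfl⟩ := psi_surjective y
  rcases cent_QC (x := x) (fun q hq => Subgroup.mem_centralizer_iff.1 hy q hq) with e | e <;> rw [e]
  · exact one_mem _
  · exact zc_mem

theorem disjoint_octad : ∃ m ∈ octMasks, Nat.land m 5279 = 0 := by decide +kernel

theorem third_point : ∀ m ∈ octMasks, Nat.land m 5279 = 0 →
    ∃ k : Fin 24, Nat.testBit m k.1 = false ∧ Nat.testBit 5279 k.1 = false := by decide +kernel

theorem not_weakly_closed : ∃ g : Cfsg.Spor.Co1, (∃ hq : g * zC * g⁻¹ ∈ Subgroup.centralizer ({zC} : Set Cfsg.Spor.Co1),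
    (⟨g * zC * g⁻¹, hq⟩ : ↥(Subgroup.centralizer ({zC} : Set Cfsg.Spor.Co1))) ∈ QC) ∧ g * zC * g⁻¹ ≠ zC := by
  obtain ⟨m, hm, hz⟩ := disjoint_octad
  have hlt := octMasks_lt hm
  have ho : ofMask m ∈ octads := mem_octads.2 (by rw [mask_ofMask hlt]; exact hm)
  obtain ⟨σ, hσ, hσo⟩ := octad_map _ ho
  obtain ⟨g, hg⟩ := mono_exists hσ (zero_mem golayCode)
  have hconj : ∀ v : Lv, (((g * eps) • v : Lv) : Zv) = sgn (actW σ octW) (prm σ (v : Zv)) := fun v => by
    rw [mono_mul (g := g) (σ := σ) (w := 0) hg eps_mono, mul_one, zero_add]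
  have hW : actW σ octW = ofMaskW m := support₂_injective (by
    rw [support₂_actW, support₂_ofMaskW, support₂_ofMaskW]; exact hσo)
  have hmem : ofMaskW m ∈ golayCode := word_of_mask (List.mem_filter.1 hm).1
  obtain ⟨t, ht⟩ := mono_exists (one_mem M24) hmem
  have hte : g * eps * g⁻¹ = t := by
    rw [mul_inv_eq_iff_eq_mul]
    refine co0_ext fun v => ?_
    rw [hconj, hW, mono_mul (g := t) (σ := 1) (w := ofMaskW m) ht hg, one_mul]
    congr 1
    funext p
    simp [actW]
  have htC : t ∈ C0 := (mono_C0 (σ := 1) ht).2 (one_smul _ _)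
  have htQ : (⟨t, htC⟩ : ↥C0) ∈ Q0 := mono_one_mem (σ := 1) (one_mem _) (zero_on_oct hz) ht
  have hval : QuotientGroup.mk g * zC * (QuotientGroup.mk g)⁻¹ = (psi ⟨t, htC⟩ : Cfsg.Spor.Co1) := by
    show QuotientGroup.mk g * QuotientGroup.mk eps * (QuotientGroup.mk g)⁻¹ = QuotientGroup.mk t
    rw [← QuotientGroup.mk_inv, ← QuotientGroup.mk_mul, ← QuotientGroup.mk_mul, hte]
  refine ⟨QuotientGroup.mk g, ⟨hval ▸ (psi ⟨t, htC⟩).2, ?_⟩, ?_⟩
  · rw [show (⟨_, hval ▸ (psi ⟨t, htC⟩).2⟩ : ↥(Subgroup.centralizer ({zC} : Set Cfsg.Spor.Co1))) = psi ⟨t, htC⟩ from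
      Subtype.ext hval]
    exact ⟨_, htQ, rfl⟩
  · rw [hval]
    intro e
    obtain ⟨k, hk1, hk2⟩ := third_point m hm hz
    have h2 : psi ⟨t, htC⟩ = psi epsC := Subtype.ext e
    have hko : pt k.1 ∉ oct := by rw [mem_ofMask, idx_pt _ k.2, hk2]; simp
    have hoff : ∀ p ∈ oct, ofMaskW m p = 0 := zero_on_oct hz
    have hp0 : pt 0 ∈ oct := by decide +kernel
    rcases psi_eq_iff.1 h2 with e | e
    · have := congrFun (congrArg (fun j : ↥C0 => act j (e8 (pt 0) : Zv)) e) (pt 0)
      simp only at this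
      rw [show ((epsC : ↥C0) : ↥Co0) = eps from rfl, eps_act (e8 (pt 0)).2,
        IsMono.act (σ := 1) (w := ofMaskW m) ht (e8 (pt 0)).2] at this
      simp [sgn, prm, e8, octW_val, hp0, hoff _ hp0] at this
    · have := congrFun (congrArg (fun j : ↥C0 => act j (e8 (pt k.1) : Zv)) e) (pt k.1)
      simp only [Subgroup.coe_mul, act_mul _ _ (e8 (pt k.1)).2] at this
      rw [show ((epsC : ↥C0) : ↥Co0) = eps from rfl, eps_act (e8 (pt k.1)).2,
        IsMono.act (σ := 1) (w := ofMaskW m) ht (e8 (pt k.1)).2,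
        nC_act (sgn_mem hmem (prm_mem (one_mem M24) (e8 (pt k.1)).2))] at this
      have hkm : ofMaskW m (pt k.1) = 0 := by simp [ofMaskW, idx_pt _ k.2, hk1]
      simp [sgn, prm, e8, octW_val, hko, hkm] at this

theorem order_zC : orderOf zC = 2 := by
  haveI : Fact (Nat.Prime 2) := ⟨Nat.prime_two⟩
  refine orderOf_eq_prime ?_ fun h => zc_ne_one (Subtype.ext h)
  rw [sq, zC, ← QuotientGroup.mk_mul, eps_sq, QuotientGroup.mk_one]

end Cfsg.Agent.Spor.Co1Invol
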